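import Groth.Agent.ResProp.EF.K58.Frame
import Groth.Agent.ResProp.EF.K83.FinDatum
import Mathlib.RingTheory.Bialgebra.Basic

/-!
# The coaction on the frame algebra

`O` a Hopf algebra over `k` with matrices `R`, `h` (`Δ R = R ⊗ R`, `Δ h = h ⊗ h`, column `i₀` of `h` is `e_(i₀)`), `D` a comodule
algebra with `ρ (φ j) = ∑ φ i ⊗ R i j`.  Then `Fr i₀ φ` is a comodule algebra, `g ↦ Rᵀ g h`.
-/

set_option autoImplicit false
set_option linter.style.haveILetI false
set_option linter.unusedSectionVars false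

open TensorProduct Matrix Groth.Agent.ResProp.EF.K83

namespace Groth.Agent.ResProp.EF.K58

universe u

variable {k : Type u} [CommRing k] {O : Type u} [CommRing O] [HopfAlgebra k O] {n : Type} [Fintype n] [DecidableEq n]
  {i₀ : n}

/-- a matrix comodule -/
structure IsMatCo (k : Type u) [CommRing k] {O : Type u} [CommRing O] [HopfAlgebra k O] {n : Type} [Fintype n]
    [DecidableEq n] (R : Matrix n n O) : Prop where
  comul : ∀ i j, Coalgebra.comul (R := k) (R i j) = ∑ l, R i l ⊗ₜ[k] R l j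
  counit : ∀ i j, Coalgebra.counit (R := k) (R i j) = if i = j then 1 else 0

theorem IsMatCo.isUnit_det {R : Matrix n n O} (h : IsMatCo k R) : IsUnit R.det := by
  -- `R * S(R) = 1`
  have h1 : R * R.map (HopfAlgebra.antipode k (A := O)) = 1 := by
    ext i j
    rw [Matrix.mul_apply, Matrix.one_apply]
    have := LinearMap.congr_fun (HopfAlgebra.mul_antipode_lTensor_comul (R := k) (A := O)) (R i j)
    rw [LinearMap.comp_apply, LinearMap.comp_apply, h.comul, LinearMap.comp_apply, h.counit] at this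
    rw [map_sum, map_sum] at this
    simp only [LinearMap.lTensor_tmul, LinearMap.mul'_apply] at this
    refine this.trans ?_
    split_ifs <;> simp
  exact Matrix.isUnit_det_of_right_inverse h1

section FrCo

variable {D : Type u} [CommRing D] [Algebra k D] (c : CoAlg k O D) (φ : n → D) (R h : Matrix n n O)

/-- the data for the coaction on `Fr` -/
structure FrData (i₀ : n) : Prop where
  R_co : IsMatCo k R
  h_co : IsMatCo k h
  col : ∀ i, h i i₀ = if i = i₀ then 1 else 0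
  rho : ∀ j, c.ρ (φ j) = ∑ i, φ i ⊗ₜ[k] R i j

variable {c φ R h}

/-- the image of the universal matrix -/
noncomputable def FrData.G (_ : FrData c φ R h i₀) : Matrix n n (Fr i₀ φ ⊗[k] O) :=
  (R.map (Algebra.TensorProduct.includeRight : O →ₐ[k] Fr i₀ φ ⊗[k] O))ᵀ *
    (mat i₀ φ).map (Algebra.TensorProduct.includeLeft : Fr i₀ φ →ₐ[k] Fr i₀ φ ⊗[k] O) *
    h.map (Algebra.TensorProduct.includeRight : O →ₐ[k] Fr i₀ φ ⊗[k] O)

theorem isUnit_det_map {S T : Type*} [CommRing S] [CommRing T] {F : Type*} [FunLike F S T] [RingHomClass F S T] (f : F)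
    {M : Matrix n n S} (hM : IsUnit M.det) : IsUnit (M.map f).det := by
  have : (M.map f).det = f M.det := by
    have := (f : S →+* T).map_det M
    rw [RingHom.mapMatrix_apply] at this
    exact this.symm
  rw [this]
  exact hM.map f

theorem FrData.isUnit_det_G (F : FrData c φ R h i₀) : IsUnit F.G.det := by
  rw [FrData.G, Matrix.det_mul, Matrix.det_mul, Matrix.det_transpose]
  exact ((isUnit_det_map _ F.R_co.isUnit_det).mul (isUnit_det_map _ (isUnit_det_mat i₀ φ))).mul
    (isUnit_det_map _ F.h_co.isUnit_det)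

/-- `ρ_D` pushed to `Fr ⊗ O` -/
noncomputable def FrData.y (_ : FrData c φ R h i₀) : D →ₐ[k] Fr i₀ φ ⊗[k] O :=
  (Algebra.TensorProduct.map (IsScalarTower.toAlgHom k D (Fr i₀ φ)) (AlgHom.id k O)).comp c.ρ

theorem FrData.G_col (F : FrData c φ R h i₀) (i : n) : F.G i i₀ = F.y (φ i) := by
  rw [FrData.y, AlgHom.comp_apply, F.rho, map_sum, FrData.G, Matrix.mul_apply]
  rw [Finset.sum_eq_single i₀]
  · rw [Matrix.map_apply, F.col, if_pos rfl, map_one, mul_one, Matrix.mul_apply]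
    refine Finset.sum_congr rfl fun l _ => ?_
    rw [Matrix.transpose_apply, Matrix.map_apply, Matrix.map_apply, mat_col, Algebra.TensorProduct.map_tmul,
      Algebra.TensorProduct.includeRight_apply, Algebra.TensorProduct.includeLeft_apply,
      Algebra.TensorProduct.tmul_mul_tmul, one_mul, mul_one]
    rfl
  · intro l _ hl
    rw [Matrix.map_apply, F.col, if_neg hl, map_zero, mul_zero]
  · exact fun h => absurd (Finset.mem_univ _) h

theorem FrData.G_col' (F : FrData c φ R h i₀) (i : n) : F.G i i₀ = (F.y : D →+* Fr i₀ φ ⊗[k] O) (φ i) := F.G_col i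

/-- **the coaction on `Fr`** -/
noncomputable def FrData.ρ (F : FrData c φ R h i₀) : Fr i₀ φ →ₐ[k] Fr i₀ φ ⊗[k] O :=
  { Fr.lift (F.y : D →+* Fr i₀ φ ⊗[k] O) F.G F.isUnit_det_G F.G_col' with
    commutes' := fun r => by
      change Fr.lift (F.y : D →+* Fr i₀ φ ⊗[k] O) F.G F.isUnit_det_G F.G_col' (algebraMap k (Fr i₀ φ) r) = _
      rw [IsScalarTower.algebraMap_apply k D (Fr i₀ φ), Fr.lift_algebraMap]
      exact F.y.commutes r }

theorem FrData.ρ_algebraMap (F : FrData c φ R h i₀) (x : D) : F.ρ (algebraMap D (Fr i₀ φ) x) =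
    Algebra.TensorProduct.map (IsScalarTower.toAlgHom k D (Fr i₀ φ)) (AlgHom.id k O) (c.ρ x) :=
  Fr.lift_algebraMap (F.y : D →+* Fr i₀ φ ⊗[k] O) F.G F.isUnit_det_G F.G_col' x

theorem FrData.ρ_mat (F : FrData c φ R h i₀) : (mat i₀ φ).map F.ρ = F.G :=
  Fr.lift_mat (F.y : D →+* Fr i₀ φ ⊗[k] O) F.G F.isUnit_det_G F.G_col'

/-- algebra homomorphisms out of `Fr` -/
theorem Fr.algHom_ext {S : Type*} [CommRing S] [Algebra k S] {f f' : Fr i₀ φ →ₐ[k] S}
    (h1 : ∀ x : D, f (algebraMap D (Fr i₀ φ) x) = f' (algebraMap D (Fr i₀ φ) x))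
    (h2 : (mat i₀ φ).map f = (mat i₀ φ).map f') : f = f' := by
  have : (f : Fr i₀ φ →+* S) = (f' : Fr i₀ φ →+* S) := Fr.hom_ext (RingHom.ext h1) h2
  exact AlgHom.ext fun x => RingHom.congr_fun this x

theorem map_algComp {S T U : Type*} [CommRing S] [CommRing T] [CommRing U] [Algebra k S] [Algebra k T] [Algebra k U]
    (M : Matrix n n S) (f : S →ₐ[k] T) (g : T →ₐ[k] U) : M.map (g.comp f) = (M.map f).map g := by
  rw [Matrix.map_map]
  rfl

/-- the image of `G` under an algebra map -/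
theorem FrData.G_map (F : FrData c φ R h i₀) {T : Type*} [CommRing T] [Algebra k T] (X : Fr i₀ φ ⊗[k] O →ₐ[k] T) :
    F.G.map X = (R.map (X.comp (Algebra.TensorProduct.includeRight : O →ₐ[k] Fr i₀ φ ⊗[k] O)))ᵀ *
      (mat i₀ φ).map (X.comp (Algebra.TensorProduct.includeLeft : Fr i₀ φ →ₐ[k] Fr i₀ φ ⊗[k] O)) *
      h.map (X.comp (Algebra.TensorProduct.includeRight : O →ₐ[k] Fr i₀ φ ⊗[k] O)) := by
  rw [FrData.G, Matrix.map_mul, Matrix.map_mul, map_algComp, map_algComp, map_algComp, Matrix.transpose_map]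

/-- comultiplication of a matrix comodule, mapped by `f` -/
theorem IsMatCo.map_comul {R : Matrix n n O} (hR : IsMatCo k R) {T : Type*} [CommRing T] [Algebra k T]
    (f : O ⊗[k] O →ₐ[k] T) : R.map (f.comp (Bialgebra.comulAlgHom k O)) =
      R.map (f.comp (Algebra.TensorProduct.includeLeft : O →ₐ[k] O ⊗[k] O)) *
      R.map (f.comp (Algebra.TensorProduct.includeRight : O →ₐ[k] O ⊗[k] O)) := by
  ext i j
  rw [Matrix.map_apply, Matrix.mul_apply, AlgHom.comp_apply]
  change f (Coalgebra.comul (R := k) (R i j)) = _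
  rw [hR.comul, map_sum]
  refine Finset.sum_congr rfl fun l _ => ?_
  rw [Matrix.map_apply, Matrix.map_apply, AlgHom.comp_apply, AlgHom.comp_apply, ← map_mul,
    Algebra.TensorProduct.includeLeft_apply, Algebra.TensorProduct.includeRight_apply,
    Algebra.TensorProduct.tmul_mul_tmul, one_mul, mul_one]

theorem FrData.coassoc_aux (F : FrData c φ R h i₀) :
    ((Algebra.TensorProduct.assoc k k k (Fr i₀ φ) O O).toAlgHom.comp
      (Algebra.TensorProduct.map F.ρ (AlgHom.id k O))).comp F.ρ =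
    (Algebra.TensorProduct.map (AlgHom.id k (Fr i₀ φ)) (Bialgebra.comulAlgHom k O)).comp F.ρ := by
  refine Fr.algHom_ext (fun x => ?_) ?_
  · change ((Algebra.TensorProduct.assoc k k k (Fr i₀ φ) O O).toAlgHom.comp
      (Algebra.TensorProduct.map F.ρ (AlgHom.id k O))) (F.ρ (algebraMap D (Fr i₀ φ) x)) =
      (Algebra.TensorProduct.map (AlgHom.id k (Fr i₀ φ)) (Bialgebra.comulAlgHom k O)) (F.ρ (algebraMap D (Fr i₀ φ) x))
    rw [F.ρ_algebraMap]
    -- move the map `D → Fr` outside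
    have e1 : (((Algebra.TensorProduct.assoc k k k (Fr i₀ φ) O O).toAlgHom.comp
      (Algebra.TensorProduct.map F.ρ (AlgHom.id k O)))).comp
        (Algebra.TensorProduct.map (IsScalarTower.toAlgHom k D (Fr i₀ φ)) (AlgHom.id k O)) =
        (Algebra.TensorProduct.map (IsScalarTower.toAlgHom k D (Fr i₀ φ)) (AlgHom.id k (O ⊗[k] O))).comp
        ((Algebra.TensorProduct.assoc k k k D O O).toAlgHom.comp (Algebra.TensorProduct.map c.ρ (AlgHom.id k O))) := by
      refine Algebra.TensorProduct.ext ?_ ?_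
      · refine AlgHom.ext fun d => ?_
        change (Algebra.TensorProduct.assoc k k k (Fr i₀ φ) O O) (F.ρ (algebraMap D (Fr i₀ φ) d) ⊗ₜ[k] (1 : O)) =
          (Algebra.TensorProduct.map (IsScalarTower.toAlgHom k D (Fr i₀ φ)) (AlgHom.id k (O ⊗[k] O)))
            ((Algebra.TensorProduct.assoc k k k D O O) (c.ρ d ⊗ₜ[k] (1 : O)))
        rw [F.ρ_algebraMap]
        induction c.ρ d using TensorProduct.induction_on with
        | zero => rw [map_zero, zero_tmul, zero_tmul, map_zero, map_zero, map_zero]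
        | tmul a b => rfl
        | add a b ha hb => rw [map_add, add_tmul, add_tmul, map_add, map_add, map_add, ha, hb]
      · refine AlgHom.ext fun d => ?_
        change (Algebra.TensorProduct.assoc k k k (Fr i₀ φ) O O) (F.ρ (algebraMap D (Fr i₀ φ) 1) ⊗ₜ[k] d) =
          (Algebra.TensorProduct.map (IsScalarTower.toAlgHom k D (Fr i₀ φ)) (AlgHom.id k (O ⊗[k] O)))
            ((Algebra.TensorProduct.assoc k k k D O O) (c.ρ 1 ⊗ₜ[k] d))
        rw [map_one, map_one, map_one]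
        change (1 : Fr i₀ φ) ⊗ₜ[k] ((1 : O) ⊗ₜ[k] d) = (algebraMap D (Fr i₀ φ) 1) ⊗ₜ[k] ((1 : O) ⊗ₜ[k] d)
        rw [map_one]
    have e2 : (Algebra.TensorProduct.map (AlgHom.id k (Fr i₀ φ)) (Bialgebra.comulAlgHom k O)).comp
        (Algebra.TensorProduct.map (IsScalarTower.toAlgHom k D (Fr i₀ φ)) (AlgHom.id k O)) =
        (Algebra.TensorProduct.map (IsScalarTower.toAlgHom k D (Fr i₀ φ)) (AlgHom.id k (O ⊗[k] O))).comp
        (Algebra.TensorProduct.map (AlgHom.id k D) (Bialgebra.comulAlgHom k O)) := by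
      ext <;> simp
    have e3 := c.coassoc x
    refine (DFunLike.congr_fun e1 (c.ρ x)).trans (Eq.trans ?_ (DFunLike.congr_fun e2 (c.ρ x)).symm)
    rw [AlgHom.comp_apply, AlgHom.comp_apply]
    exact congrArg _ e3
  · refine (map_algComp (mat i₀ φ) F.ρ ((Algebra.TensorProduct.assoc k k k (Fr i₀ φ) O O).toAlgHom.comp
      (Algebra.TensorProduct.map F.ρ (AlgHom.id k O)))).trans (Eq.trans ?_ (map_algComp (mat i₀ φ) F.ρ
      (Algebra.TensorProduct.map (AlgHom.id k (Fr i₀ φ)) (Bialgebra.comulAlgHom k O))).symm)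
    rw [F.ρ_mat]
    refine (F.G_map _).trans (Eq.trans ?_ (F.G_map _).symm)
    -- the three algebra maps
    let i0 : Fr i₀ φ →ₐ[k] Fr i₀ φ ⊗[k] (O ⊗[k] O) := Algebra.TensorProduct.includeLeft
    let ia : O →ₐ[k] Fr i₀ φ ⊗[k] (O ⊗[k] O) := (Algebra.TensorProduct.includeRight).comp Algebra.TensorProduct.includeLeft
    let ib : O →ₐ[k] Fr i₀ φ ⊗[k] (O ⊗[k] O) := (Algebra.TensorProduct.includeRight).comp Algebra.TensorProduct.includeRight
    have a1 : ((Algebra.TensorProduct.assoc k k k (Fr i₀ φ) O O).toAlgHom.comp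
        (Algebra.TensorProduct.map F.ρ (AlgHom.id k O))).comp
        (Algebra.TensorProduct.includeRight : O →ₐ[k] Fr i₀ φ ⊗[k] O) = ib := by
      refine AlgHom.ext fun a => ?_
      change (Algebra.TensorProduct.assoc k k k (Fr i₀ φ) O O) (F.ρ 1 ⊗ₜ[k] a) = _
      rw [map_one]
      rfl
    -- `A12`
    let A12 : Fr i₀ φ ⊗[k] O →ₐ[k] Fr i₀ φ ⊗[k] (O ⊗[k] O) :=
      (Algebra.TensorProduct.assoc k k k (Fr i₀ φ) O O).toAlgHom.comp Algebra.TensorProduct.includeLeft
    have a2 : ((Algebra.TensorProduct.assoc k k k (Fr i₀ φ) O O).toAlgHom.comp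
        (Algebra.TensorProduct.map F.ρ (AlgHom.id k O))).comp
        (Algebra.TensorProduct.includeLeft : Fr i₀ φ →ₐ[k] Fr i₀ φ ⊗[k] O) = A12.comp F.ρ := rfl
    have a3 : A12.comp (Algebra.TensorProduct.includeRight : O →ₐ[k] Fr i₀ φ ⊗[k] O) = ia := rfl
    have a4 : A12.comp (Algebra.TensorProduct.includeLeft : Fr i₀ φ →ₐ[k] Fr i₀ φ ⊗[k] O) = i0 := rfl
    have b1 : (Algebra.TensorProduct.map (AlgHom.id k (Fr i₀ φ)) (Bialgebra.comulAlgHom k O)).comp
        (Algebra.TensorProduct.includeRight : O →ₐ[k] Fr i₀ φ ⊗[k] O) =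
        (Algebra.TensorProduct.includeRight : O ⊗[k] O →ₐ[k] Fr i₀ φ ⊗[k] (O ⊗[k] O)).comp (Bialgebra.comulAlgHom k O) := rfl
    have b2 : (Algebra.TensorProduct.map (AlgHom.id k (Fr i₀ φ)) (Bialgebra.comulAlgHom k O)).comp
        (Algebra.TensorProduct.includeLeft : Fr i₀ φ →ₐ[k] Fr i₀ φ ⊗[k] O) = i0 := by
      refine AlgHom.ext fun a => ?_
      change a ⊗ₜ[k] (Bialgebra.comulAlgHom k O 1) = _
      rw [map_one]
      rfl
    have a5 : (mat i₀ φ).map (A12.comp F.ρ) = (R.map ia)ᵀ * (mat i₀ φ).map i0 * h.map ia := by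
      refine (map_algComp (mat i₀ φ) F.ρ A12).trans ?_
      rw [F.ρ_mat]
      exact F.G_map A12
    have b3 : R.map ((Algebra.TensorProduct.includeRight : O ⊗[k] O →ₐ[k] Fr i₀ φ ⊗[k] (O ⊗[k] O)).comp
        (Bialgebra.comulAlgHom k O)) = R.map ia * R.map ib := F.R_co.map_comul _
    have b4 : h.map ((Algebra.TensorProduct.includeRight : O ⊗[k] O →ₐ[k] Fr i₀ φ ⊗[k] (O ⊗[k] O)).comp
        (Bialgebra.comulAlgHom k O)) = h.map ia * h.map ib := F.h_co.map_comul _
    rw [a1, a2, b1, b2, a5, b3, b4, Matrix.transpose_mul]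
    simp only [Matrix.mul_assoc]

theorem FrData.counit_aux (F : FrData c φ R h i₀) :
    (Algebra.TensorProduct.map (AlgHom.id k (Fr i₀ φ)) (Bialgebra.counitAlgHom k O)).comp F.ρ =
      Algebra.TensorProduct.includeLeft := by
  refine Fr.algHom_ext (fun x => ?_) ?_
  · change (Algebra.TensorProduct.map (AlgHom.id k (Fr i₀ φ)) (Bialgebra.counitAlgHom k O))
      (F.ρ (algebraMap D (Fr i₀ φ) x)) = (algebraMap D (Fr i₀ φ) x) ⊗ₜ[k] (1 : k)
    rw [F.ρ_algebraMap]
    have e2 : (Algebra.TensorProduct.map (AlgHom.id k (Fr i₀ φ)) (Bialgebra.counitAlgHom k O)).comp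
        (Algebra.TensorProduct.map (IsScalarTower.toAlgHom k D (Fr i₀ φ)) (AlgHom.id k O)) =
        (Algebra.TensorProduct.map (IsScalarTower.toAlgHom k D (Fr i₀ φ)) (AlgHom.id k k)).comp
        (Algebra.TensorProduct.map (AlgHom.id k D) (Bialgebra.counitAlgHom k O)) := by
      refine Algebra.TensorProduct.ext (AlgHom.ext fun a => ?_) (AlgHom.ext fun a => ?_)
      · change (algebraMap D (Fr i₀ φ) a) ⊗ₜ[k] (Bialgebra.counitAlgHom k O 1) =
          (algebraMap D (Fr i₀ φ) a) ⊗ₜ[k] (Bialgebra.counitAlgHom k O 1)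
        rfl
      · rfl
    refine (DFunLike.congr_fun e2 (c.ρ x)).trans ?_
    exact congrArg (Algebra.TensorProduct.map (IsScalarTower.toAlgHom k D (Fr i₀ φ)) (AlgHom.id k k)) (c.counit x)
  · refine (map_algComp (mat i₀ φ) F.ρ _).trans ?_
    rw [F.ρ_mat]
    refine (F.G_map _).trans ?_
    have hc : ∀ {M : Matrix n n O}, IsMatCo k M → M.map
        ((Algebra.TensorProduct.map (AlgHom.id k (Fr i₀ φ)) (Bialgebra.counitAlgHom k O)).comp
        (Algebra.TensorProduct.includeRight : O →ₐ[k] Fr i₀ φ ⊗[k] O)) = 1 := by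
      intro M hM
      ext i j
      rw [Matrix.map_apply, Matrix.one_apply]
      change (1 : Fr i₀ φ) ⊗ₜ[k] (Coalgebra.counit (R := k) (M i j)) = _
      rw [hM.counit]
      split_ifs
      · rfl
      · rw [tmul_zero]
    rw [hc F.R_co, hc F.h_co, Matrix.transpose_one, one_mul, mul_one]
    congr 1
    funext a
    change a ⊗ₜ[k] (Bialgebra.counitAlgHom k O 1) = a ⊗ₜ[k] (1 : k)
    rw [map_one]

/-- **the comodule algebra `Fr`** -/
noncomputable def FrData.coAlg (F : FrData c φ R h i₀) : CoAlg k O (Fr i₀ φ) where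
  ρ := F.ρ
  coassoc x := DFunLike.congr_fun F.coassoc_aux x
  counit x := DFunLike.congr_fun F.counit_aux x

/-- `Fr.map` as an algebra map -/
noncomputable def Fr.mapA {D D' : Type u} [CommRing D] [CommRing D'] [Algebra k D] [Algebra k D'] {φ : n → D}
    {φ' : n → D'} (f : D →ₐ[k] D') (hf : ∀ i, (f : D →+* D') (φ i) = φ' i) : Fr i₀ φ →ₐ[k] Fr i₀ φ' :=
  { Fr.map (i₀ := i₀) (f : D →+* D') hf with
    commutes' := fun r => by
      change Fr.map (i₀ := i₀) (f : D →+* D') hf (algebraMap k (Fr i₀ φ) r) = _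
      rw [IsScalarTower.algebraMap_apply k D (Fr i₀ φ), Fr.map_algebraMap,
        IsScalarTower.algebraMap_apply k D' (Fr i₀ φ')]
      exact congrArg _ (f.commutes r) }

/-- naturality: `Fr.map f` is a map of comodule algebras if `f` is -/
theorem FrData.map_ρ {D' : Type u} [CommRing D'] [Algebra k D'] {c' : CoAlg k O D'} {φ' : n → D'}
    (F : FrData c φ R h i₀) (F' : FrData c' φ' R h i₀) (f : D →ₐ[k] D') (hf : ∀ i, (f : D →+* D') (φ i) = φ' i)
    (hc : ∀ x, c'.ρ (f x) = Algebra.TensorProduct.map f (AlgHom.id k O) (c.ρ x)) (z : Fr i₀ φ) :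
    F'.ρ (Fr.mapA (i₀ := i₀) f hf z) =
      Algebra.TensorProduct.map (Fr.mapA (i₀ := i₀) f hf) (AlgHom.id k O) (F.ρ z) := by
  let m : Fr i₀ φ →ₐ[k] Fr i₀ φ' := Fr.mapA (i₀ := i₀) f hf
  have hm : ∀ x, m (algebraMap D (Fr i₀ φ) x) = algebraMap D' (Fr i₀ φ') (f x) := fun x =>
    Fr.map_algebraMap (i₀ := i₀) (f : D →+* D') hf x
  have hm' : (mat i₀ φ).map m = mat i₀ φ' := Fr.map_mat (i₀ := i₀) (f : D →+* D') hf
  have key : F'.ρ.comp m = (Algebra.TensorProduct.map m (AlgHom.id k O)).comp F.ρ := by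
    refine Fr.algHom_ext (fun x => ?_) ?_
    · change F'.ρ (m (algebraMap D (Fr i₀ φ) x)) = Algebra.TensorProduct.map m (AlgHom.id k O) (F.ρ (algebraMap D (Fr i₀ φ) x))
      rw [hm, F'.ρ_algebraMap, F.ρ_algebraMap, hc]
      induction c.ρ x using TensorProduct.induction_on with
      | zero => simp only [map_zero]
      | tmul a b =>
        rw [Algebra.TensorProduct.map_tmul, Algebra.TensorProduct.map_tmul, Algebra.TensorProduct.map_tmul,
          Algebra.TensorProduct.map_tmul]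
        change algebraMap D' (Fr i₀ φ') (f a) ⊗ₜ[k] b = m (algebraMap D (Fr i₀ φ) a) ⊗ₜ[k] b
        rw [hm]
      | add a b ha hb => simp only [map_add, ha, hb]
    · refine (map_algComp (mat i₀ φ) m F'.ρ).trans (Eq.trans ?_ (map_algComp (mat i₀ φ) F.ρ
        (Algebra.TensorProduct.map m (AlgHom.id k O))).symm)
      rw [hm', F'.ρ_mat, F.ρ_mat]
      refine Eq.trans ?_ (F.G_map _).symm
      rw [FrData.G]
      have e1 : (Algebra.TensorProduct.map m (AlgHom.id k O)).comp
          (Algebra.TensorProduct.includeRight : O →ₐ[k] Fr i₀ φ ⊗[k] O) = Algebra.TensorProduct.includeRight := by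
        refine AlgHom.ext fun a => ?_
        change (m 1) ⊗ₜ[k] a = 1 ⊗ₜ[k] a
        rw [map_one]
      have e2 : (mat i₀ φ).map ((Algebra.TensorProduct.map m (AlgHom.id k O)).comp
          (Algebra.TensorProduct.includeLeft : Fr i₀ φ →ₐ[k] Fr i₀ φ ⊗[k] O)) =
          (mat i₀ φ').map (Algebra.TensorProduct.includeLeft : Fr i₀ φ' →ₐ[k] Fr i₀ φ' ⊗[k] O) := by
        rw [← hm']
        exact (map_algComp (mat i₀ φ) m
          (Algebra.TensorProduct.includeLeft : Fr i₀ φ' →ₐ[k] Fr i₀ φ' ⊗[k] O))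
      rw [e1, e2]
  exact DFunLike.congr_fun key z

end FrCo

end Groth.Agent.ResProp.EF.K58
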