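import Groth.Agent.ResProp.EF.K58.Loc
import Mathlib.LinearAlgebra.Matrix.GeneralLinearGroup.Defs
import Mathlib.LinearAlgebra.Matrix.Adjugate
import Mathlib.RingTheory.Localization.Away.Basic
import Mathlib.RingTheory.RingHom.FinitePresentation
import Groth.Agent.StMod.K784.BC3
import Mathlib.RingTheory.Flat.Stability

/-!
# The frame algebra `Fr i₀ φ`

`B` ring, `φ : n → B`.  `Fr i₀ φ = B[x_ij (j ≠ i₀), 1/det]`: its `S`-points are the pairs `(y, g)`, `y : B → S`, `g` an invertible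
matrix over `S` with column `i₀` equal to `y φ`.
-/

set_option autoImplicit false
set_option linter.style.haveILetI false
set_option linter.unusedSectionVars false

open TensorProduct

namespace Groth.Agent.ResProp.EF.K58

universe u v w

section Def

variable {B : Type u} [CommRing B] {n : Type} [Fintype n] [DecidableEq n] (i₀ : n) (φ : n → B)

/-- the universal matrix with column `i₀` equal to `φ`, over the polynomial ring -/
noncomputable def mat0 : Matrix n n (MvPolynomial (n × {j : n // j ≠ i₀}) B) :=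
  fun i j => if h : j = i₀ then MvPolynomial.C (φ i) else MvPolynomial.X (i, ⟨j, h⟩)

/-- **the frame algebra** -/
def Fr : Type u := Localization.Away (mat0 i₀ φ).det

noncomputable instance : CommRing (Fr i₀ φ) := inferInstanceAs (CommRing (Localization.Away (mat0 i₀ φ).det))

noncomputable instance : Algebra (MvPolynomial (n × {j : n // j ≠ i₀}) B) (Fr i₀ φ) :=
  inferInstanceAs (Algebra (MvPolynomial (n × {j : n // j ≠ i₀}) B) (Localization.Away (mat0 i₀ φ).det))

noncomputable instance {R : Type*} [CommRing R] [Algebra R B] : Algebra R (Fr i₀ φ) :=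
  inferInstanceAs (Algebra R (Localization.Away (mat0 i₀ φ).det))

instance {R : Type*} [CommRing R] [Algebra R B] :
    IsScalarTower R (MvPolynomial (n × {j : n // j ≠ i₀}) B) (Fr i₀ φ) :=
  inferInstanceAs (IsScalarTower R (MvPolynomial (n × {j : n // j ≠ i₀}) B) (Localization.Away (mat0 i₀ φ).det))

instance {R : Type*} [CommRing R] [Algebra R B] : IsScalarTower R B (Fr i₀ φ) :=
  IsScalarTower.of_algebraMap_eq fun r => by
    rw [IsScalarTower.algebraMap_apply R (MvPolynomial (n × {j : n // j ≠ i₀}) B) (Fr i₀ φ),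
      IsScalarTower.algebraMap_apply B (MvPolynomial (n × {j : n // j ≠ i₀}) B) (Fr i₀ φ)]
    rfl

instance : IsLocalization.Away (mat0 i₀ φ).det (Fr i₀ φ) :=
  inferInstanceAs (IsLocalization.Away (mat0 i₀ φ).det (Localization.Away (mat0 i₀ φ).det))

/-- the universal matrix over `Fr` -/
noncomputable def mat : Matrix n n (Fr i₀ φ) :=
  (mat0 i₀ φ).map (algebraMap (MvPolynomial (n × {j : n // j ≠ i₀}) B) (Fr i₀ φ))

theorem isUnit_det_mat : IsUnit (mat i₀ φ).det := by
  have h : (mat i₀ φ).det = algebraMap (MvPolynomial (n × {j : n // j ≠ i₀}) B) (Fr i₀ φ) (mat0 i₀ φ).det :=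
    ((algebraMap (MvPolynomial (n × {j : n // j ≠ i₀}) B) (Fr i₀ φ)).map_det (mat0 i₀ φ)).symm
  rw [h]
  exact IsLocalization.Away.algebraMap_isUnit _

theorem mat_col (i : n) : mat i₀ φ i i₀ = algebraMap B (Fr i₀ φ) (φ i) := by
  have : mat i₀ φ i i₀ = algebraMap (MvPolynomial (n × {j : n // j ≠ i₀}) B) (Fr i₀ φ) (mat0 i₀ φ i i₀) := rfl
  rw [this, mat0, dif_pos rfl, IsScalarTower.algebraMap_apply B (MvPolynomial (n × {j : n // j ≠ i₀}) B) (Fr i₀ φ)]
  rfl

variable {i₀ φ}

section Lift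

variable {S : Type*} [CommRing S] (y : B →+* S) (g : Matrix n n S) (hg : IsUnit g.det)
  (hcol : ∀ i, g i i₀ = y (φ i))

include hcol in
theorem eval_mat0 : (mat0 i₀ φ).map (MvPolynomial.eval₂Hom y fun p : n × {j : n // j ≠ i₀} => g p.1 p.2.1) = g := by
  ext i j
  rw [Matrix.map_apply, mat0]
  split_ifs with h
  · subst h
    rw [hcol]
    simp
  · simp

/-- the universal property of `Fr` -/
noncomputable def Fr.lift : Fr i₀ φ →+* S :=
  IsLocalization.Away.lift (S := Fr i₀ φ) (mat0 i₀ φ).det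
    (g := MvPolynomial.eval₂Hom y fun p : n × {j : n // j ≠ i₀} => g p.1 p.2.1) (by
      rw [RingHom.map_det, RingHom.mapMatrix_apply, eval_mat0 y g hcol]
      exact hg)

theorem Fr.lift_algebraMap (b : B) : Fr.lift y g hg hcol (algebraMap B (Fr i₀ φ) b) = y b := by
  rw [IsScalarTower.algebraMap_apply B (MvPolynomial (n × {j : n // j ≠ i₀}) B) (Fr i₀ φ), Fr.lift,
    IsLocalization.Away.lift_eq]
  simp

theorem Fr.lift_comp : (Fr.lift y g hg hcol).comp (algebraMap B (Fr i₀ φ)) = y :=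
  RingHom.ext fun b => Fr.lift_algebraMap y g hg hcol b

theorem Fr.lift_mat : (mat i₀ φ).map (Fr.lift y g hg hcol) = g := by
  refine Eq.trans ?_ (eval_mat0 y g hcol)
  ext i j
  rw [Matrix.map_apply, Matrix.map_apply, mat, Matrix.map_apply, Fr.lift, IsLocalization.Away.lift_eq]

end Lift

theorem Fr.hom_ext {S : Type*} [CommRing S] {f f' : Fr i₀ φ →+* S}
    (h1 : f.comp (algebraMap B (Fr i₀ φ)) = f'.comp (algebraMap B (Fr i₀ φ)))
    (h2 : (mat i₀ φ).map f = (mat i₀ φ).map f') : f = f' := by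
  refine IsLocalization.ringHom_ext (Submonoid.powers (mat0 i₀ φ).det) ?_
  refine MvPolynomial.ringHom_ext (fun b => ?_) fun p => ?_
  · have := RingHom.congr_fun h1 b
    simpa [IsScalarTower.algebraMap_apply B (MvPolynomial (n × {j : n // j ≠ i₀}) B) (Fr i₀ φ)] using this
  · have := congrFun (congrFun h2 p.1) p.2.1
    rw [Matrix.map_apply, Matrix.map_apply, mat, Matrix.map_apply, mat0, dif_neg p.2.2] at this
    exact this

variable (i₀ φ) in
theorem Fr.uni : Uni φ (Fr i₀ φ) := by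
  rw [Uni, Ideal.eq_top_iff_one]
  have h1 : (mat i₀ φ)⁻¹ * mat i₀ φ = 1 := Matrix.nonsing_inv_mul _ (isUnit_det_mat i₀ φ)
  have h2 := congrFun (congrFun h1 i₀) i₀
  rw [Matrix.mul_apply, Matrix.one_apply_eq] at h2
  rw [← h2]
  refine Submodule.sum_mem _ fun i _ => Ideal.mul_mem_left _ _ ?_
  rw [mat_col]
  exact Ideal.subset_span ⟨i, rfl⟩

instance Fr.flat : Module.Flat B (Fr i₀ φ) := by
  haveI : Module.Flat (MvPolynomial (n × {j : n // j ≠ i₀}) B) (Fr i₀ φ) :=
    IsLocalization.flat _ (Submonoid.powers (mat0 i₀ φ).det)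
  exact Module.Flat.trans B (MvPolynomial (n × {j : n // j ≠ i₀}) B) (Fr i₀ φ)

instance Fr.finitePresentation : Algebra.FinitePresentation B (Fr i₀ φ) := by
  haveI : Algebra.FinitePresentation (MvPolynomial (n × {j : n // j ≠ i₀}) B) (Fr i₀ φ) :=
    IsLocalization.Away.finitePresentation (S := Fr i₀ φ) (mat0 i₀ φ).det
  exact Algebra.FinitePresentation.trans B (MvPolynomial (n × {j : n // j ≠ i₀}) B) (Fr i₀ φ)

end Def

section Map

variable {B B' B'' : Type u} [CommRing B] [CommRing B'] [CommRing B''] {n : Type} [Fintype n] [DecidableEq n] {i₀ : n}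
  {φ : n → B} {φ' : n → B'} {φ'' : n → B''}

/-- functoriality of `Fr` -/
noncomputable def Fr.map (f : B →+* B') (h : ∀ i, f (φ i) = φ' i) : Fr i₀ φ →+* Fr i₀ φ' :=
  Fr.lift ((algebraMap B' (Fr i₀ φ')).comp f) (mat i₀ φ') (isUnit_det_mat i₀ φ') fun i => by
    rw [mat_col, RingHom.comp_apply, h]

theorem Fr.map_algebraMap (f : B →+* B') (h : ∀ i, f (φ i) = φ' i) (b : B) :
    Fr.map (i₀ := i₀) f h (algebraMap B (Fr i₀ φ) b) = algebraMap B' (Fr i₀ φ') (f b) :=
  Fr.lift_algebraMap _ _ _ _ b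

theorem Fr.map_comp_algebraMap (f : B →+* B') (h : ∀ i, f (φ i) = φ' i) :
    (Fr.map (i₀ := i₀) f h).comp (algebraMap B (Fr i₀ φ)) = (algebraMap B' (Fr i₀ φ')).comp f :=
  Fr.lift_comp _ _ _ _

theorem Fr.map_mat (f : B →+* B') (h : ∀ i, f (φ i) = φ' i) : (mat i₀ φ).map (Fr.map (i₀ := i₀) f h) = mat i₀ φ' :=
  Fr.lift_mat _ _ _ _

theorem Fr.map_map (f : B →+* B') (h : ∀ i, f (φ i) = φ' i) (f' : B' →+* B'') (h' : ∀ i, f' (φ' i) = φ'' i) :
    (Fr.map (i₀ := i₀) f' h').comp (Fr.map (i₀ := i₀) f h) =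
      Fr.map (i₀ := i₀) (f'.comp f) (fun i => by rw [RingHom.comp_apply, h, h']) := by
  refine Fr.hom_ext ?_ ?_
  · rw [RingHom.comp_assoc, Fr.map_comp_algebraMap, ← RingHom.comp_assoc, Fr.map_comp_algebraMap,
      Fr.map_comp_algebraMap, RingHom.comp_assoc]
  · have : (mat i₀ φ).map ((Fr.map (i₀ := i₀) f' h').comp (Fr.map (i₀ := i₀) f h)) =
        ((mat i₀ φ).map (Fr.map (i₀ := i₀) f h)).map (Fr.map (i₀ := i₀) f' h') := by
      rw [Matrix.map_map]; rfl
    rw [this, Fr.map_mat, Fr.map_mat, Fr.map_mat]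

theorem Fr.map_id (h : ∀ i, RingHom.id B (φ i) = φ i) : Fr.map (i₀ := i₀) (RingHom.id B) h = RingHom.id _ := by
  refine Fr.hom_ext ?_ ?_
  · rw [Fr.map_comp_algebraMap, RingHom.id_comp, RingHom.comp_id]
  · rw [Fr.map_mat]
    ext i j
    rfl

open CategoryTheory Limits K784.BC

/-- **base change**: `Fr` of a base change is the base change of `Fr` -/
theorem Fr.isPO (f : B →+* B') (h : ∀ i, f (φ i) = φ' i) :
    IsPO f (algebraMap B (Fr i₀ φ)) (algebraMap B' (Fr i₀ φ')) (Fr.map (i₀ := i₀) f h) := by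
  have hdet : ∀ s : PushoutCocone (CommRingCat.ofHom f) (CommRingCat.ofHom (algebraMap B (Fr i₀ φ))),
      IsUnit ((mat i₀ φ).map s.inr.hom).det := fun s => by
    rw [← RingHom.mapMatrix_apply, ← RingHom.map_det]
    exact (isUnit_det_mat i₀ φ).map s.inr.hom
  have hcol : ∀ s : PushoutCocone (CommRingCat.ofHom f) (CommRingCat.ofHom (algebraMap B (Fr i₀ φ))),
      ∀ i, ((mat i₀ φ).map s.inr.hom) i i₀ = s.inl.hom (φ' i) := fun s i => by
    rw [Matrix.map_apply, mat_col, ← h]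
    exact (congr($(s.condition).hom (φ i))).symm
  refine ⟨⟨?_⟩, ⟨PushoutCocone.IsColimit.mk _
    (fun s => CommRingCat.ofHom (Fr.lift s.inl.hom ((mat i₀ φ).map s.inr.hom) (hdet s) (hcol s)))
    (fun s => ?_) (fun s => ?_) (fun s m h1 h2 => ?_)⟩⟩
  · ext b
    exact (Fr.map_algebraMap f h b).symm
  · ext b
    exact Fr.lift_algebraMap _ _ (hdet s) (hcol s) b
  · refine CommRingCat.hom_ext (Fr.hom_ext ?_ ?_)
    · ext b
      change Fr.lift _ _ (hdet s) (hcol s) (Fr.map (i₀ := i₀) f h (algebraMap B (Fr i₀ φ) b)) = _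
      rw [Fr.map_algebraMap, Fr.lift_algebraMap]
      exact congr($(s.condition).hom b)
    · have e1 : (mat i₀ φ).map (CommRingCat.ofHom (Fr.map (i₀ := i₀) f h) ≫ CommRingCat.ofHom (Fr.lift s.inl.hom
          ((mat i₀ φ).map s.inr.hom) (hdet s) (hcol s))).hom =
          ((mat i₀ φ).map (Fr.map (i₀ := i₀) f h)).map (Fr.lift s.inl.hom
          ((mat i₀ φ).map s.inr.hom) (hdet s) (hcol s)) := by
        rw [Matrix.map_map]; rfl
      refine e1.trans ?_
      rw [Fr.map_mat, Fr.lift_mat]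
  · refine CommRingCat.hom_ext (Fr.hom_ext ?_ ?_)
    · ext b
      change m.hom (algebraMap B' (Fr i₀ φ') b) = Fr.lift _ _ (hdet s) (hcol s) (algebraMap B' (Fr i₀ φ') b)
      rw [Fr.lift_algebraMap]
      exact congr($(h1).hom b)
    · refine Eq.trans ?_ (Fr.lift_mat _ _ (hdet s) (hcol s)).symm
      rw [← h2, ← Fr.map_mat f h, Matrix.map_map]
      rfl

end Map

end Groth.Agent.ResProp.EF.K58
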