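import Mathlib.RingTheory.Flat.Localization
import Mathlib.RingTheory.RingHom.FaithfullyFlat
import Mathlib.RingTheory.Localization.BaseChange
import Mathlib.RingTheory.LocalProperties.Exactness

/-!
# Properties of `C ⊗ M` when `M` is good after inverting the `φ i` and the `φ i` generate the unit ideal of `C`

`B` ring, `φ : ι → B`, `C` a `B`-algebra in which the `φ i` generate the unit ideal (so `Spec C → Spec B` lands in the open
`F = ⋃ D(φ i)`).  A property of a `B`-module over `F` holds for `C ⊗[B] M`.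
-/

set_option autoImplicit false
set_option linter.style.haveILetI false

open TensorProduct

namespace Groth.Agent.ResProp.EF.K58

universe u v w

variable {B : Type*} [CommRing B] {ι : Type*} (φ : ι → B)

/-- `φ` generates the unit ideal of `C` -/
def Uni (C : Type*) [CommRing C] [Algebra B C] : Prop := Ideal.span (Set.range fun i => algebraMap B C (φ i)) = ⊤

variable {φ}

/-- the annihilator argument -/
theorem Uni.mem_of_pow {C : Type*} [CommRing C] [Algebra B C] (hC : Uni φ C) {N : Type*} [AddCommGroup N] [Module C N]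
    (P : Submodule C N) (x : N) (h : ∀ i, ∃ n : ℕ, (algebraMap B C (φ i)) ^ n • x ∈ P) : x ∈ P := by
  classical
  choose n hn using h
  -- the ideal of `c` with `c • x ∈ P`
  let I : Ideal C := P.comap (LinearMap.toSpanSingleton C N x)
  have hI : ∀ c : C, c ∈ I ↔ c • x ∈ P := fun c => Iff.rfl
  have hrad : I.radical = ⊤ := by
    rw [eq_top_iff, ← hC, Ideal.span_le]
    rintro _ ⟨i, rfl⟩
    exact ⟨n i, (hI _).2 (hn i)⟩
  have htop : I = ⊤ := Ideal.radical_eq_top.mp hrad
  have : (1 : C) ∈ I := htop ▸ Submodule.mem_top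
  simpa using (hI 1).1 this

section Bij

variable {X Y : Type*} [AddCommGroup X] [Module B X] [AddCommGroup Y] [Module B Y] (u : X →ₗ[B] Y)

theorem Uni.bijective_baseChange (C : Type*) [CommRing C] [Algebra B C] (hC : Uni φ C)
    (hu : ∀ i, Function.Bijective (u.lTensor (Localization.Away (φ i)))) : Function.Bijective (u.lTensor C) := by
  -- the map after tensoring once more with `B_i`
  have key : ∀ i, Function.Bijective ((u.lTensor C).lTensor (Localization.Away (φ i))) := by
    intro i
    -- `B_i ⊗ (C ⊗ u) = C ⊗ (B_i ⊗ u)`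
    let eX := TensorProduct.leftComm B (Localization.Away (φ i)) C X
    let eY := TensorProduct.leftComm B (Localization.Away (φ i)) C Y
    have h1 : Function.Bijective ((u.lTensor (Localization.Away (φ i))).lTensor C) :=
      (LinearEquiv.lTensor C (LinearEquiv.ofBijective _ (hu i))).bijective
    have h2 : eY.toLinearMap ∘ₗ ((u.lTensor C).lTensor (Localization.Away (φ i))) =
        ((u.lTensor (Localization.Away (φ i))).lTensor C) ∘ₗ eX.toLinearMap := by
      ext a c x
      rfl
    have h3 : ⇑eY ∘ ⇑((u.lTensor C).lTensor (Localization.Away (φ i))) =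
        ⇑((u.lTensor (Localization.Away (φ i))).lTensor C) ∘ ⇑eX := congrArg DFunLike.coe h2
    have h4 : Function.Bijective (⇑eY ∘ ⇑((u.lTensor C).lTensor (Localization.Away (φ i)))) := by
      rw [h3]
      exact h1.comp eX.bijective
    exact (Function.Bijective.of_comp_iff' eY.bijective _).1 h4
  -- `lTensor C` as a `C`-linear map
  have hbc : ∀ z, u.baseChange C z = u.lTensor C z := fun z => rfl
  constructor
  · rw [injective_iff_map_eq_zero]
    intro z hz
    have : z ∈ (⊥ : Submodule C (C ⊗[B] X)) := by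
      refine hC.mem_of_pow _ z fun i => ?_
      have h1 : ((1 : Localization.Away (φ i)) ⊗ₜ[B] z) = 0 := by
        apply (key i).1
        rw [LinearMap.lTensor_tmul, hz, tmul_zero, map_zero]
      have h2 : IsLocalizedModule (Submonoid.powers (φ i)) (TensorProduct.mk B (Localization.Away (φ i)) (C ⊗[B] X) 1) :=
        inferInstance
      obtain ⟨⟨_, n, rfl⟩, hc⟩ := (IsLocalizedModule.eq_zero_iff (Submonoid.powers (φ i))
        (TensorProduct.mk B (Localization.Away (φ i)) (C ⊗[B] X) 1)).1 h1
      refine ⟨n, ?_⟩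
      rw [Submodule.mem_bot, ← map_pow, algebraMap_smul]
      exact hc
    simpa using this
  · intro y
    have : y ∈ LinearMap.range (u.baseChange C) := by
      refine hC.mem_of_pow _ y fun i => ?_
      obtain ⟨z, hz⟩ := (key i).2 ((1 : Localization.Away (φ i)) ⊗ₜ[B] y)
      obtain ⟨⟨x, ⟨_, n, rfl⟩⟩, hx⟩ := IsLocalizedModule.mk'_surjective (Submonoid.powers (φ i))
        (TensorProduct.mk B (Localization.Away (φ i)) (C ⊗[B] X) 1) z
      -- `φ^n z = 1 ⊗ x`
      have h1 : (φ i) ^ n • z = (1 : Localization.Away (φ i)) ⊗ₜ[B] x := by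
        rw [← hx]
        exact IsLocalizedModule.mk'_cancel' (S := Submonoid.powers (φ i))
          (TensorProduct.mk B (Localization.Away (φ i)) (C ⊗[B] X) 1) x ⟨_, n, rfl⟩
      have h2 : (1 : Localization.Away (φ i)) ⊗ₜ[B] (u.lTensor C x) = (1 : Localization.Away (φ i)) ⊗ₜ[B] ((φ i) ^ n • y) := by
        have := congrArg ((u.lTensor C).lTensor (Localization.Away (φ i))) h1
        rw [LinearMap.map_smul, hz, LinearMap.lTensor_tmul] at this
        rw [← this, tmul_smul]
      obtain ⟨⟨_, m, rfl⟩, hc⟩ := (IsLocalizedModule.eq_iff_exists (Submonoid.powers (φ i))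
        (TensorProduct.mk B (Localization.Away (φ i)) (C ⊗[B] Y) 1)).1 h2
      refine ⟨m + n, ?_⟩
      have hc' : (φ i) ^ m • (u.lTensor C x) = (φ i) ^ m • ((φ i) ^ n • y) := hc
      rw [pow_add, mul_smul, ← map_pow, ← map_pow, algebraMap_smul, algebraMap_smul, ← hc']
      exact Submodule.smul_of_tower_mem _ _ ⟨x, rfl⟩
    obtain ⟨x, hx⟩ := this
    exact ⟨x, hx⟩

end Bij

section Flat

variable {M : Type*} [AddCommGroup M] [Module B M]

theorem Uni.flat (C : Type*) [CommRing C] [Algebra B C] (hC : Uni φ C)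
    (hM : ∀ i, Module.Flat (Localization.Away (φ i)) (Localization.Away (φ i) ⊗[B] M)) : Module.Flat C (C ⊗[B] M) := by
  -- `C_i`
  let s : Set C := Set.range fun i => algebraMap B C (φ i)
  refine Module.flat_of_isLocalized_span C (C ⊗[B] M) s hC (fun r => Localization.Away r.1 ⊗[C] (C ⊗[B] M))
    (fun r => TensorProduct.mk C (Localization.Away r.1) (C ⊗[B] M) 1) ?_
  rintro ⟨_, i, rfl⟩
  let Bi := Localization.Away (φ i)
  let Ci := Localization.Away (algebraMap B C (φ i))
  letI : Algebra Bi Ci := (Localization.awayMap (algebraMap B C) (φ i)).toAlgebra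
  haveI : IsScalarTower B Bi Ci := IsScalarTower.of_algebraMap_eq fun b => by
    change _ = (Localization.awayMap (algebraMap B C) (φ i)) (algebraMap B Bi b)
    rw [Localization.awayMap, IsLocalization.Away.map, IsLocalization.map_eq, IsScalarTower.algebraMap_apply B C Ci]
  haveI := hM i
  haveI : Module.Flat Ci (Ci ⊗[Bi] (Bi ⊗[B] M)) := inferInstance
  let e : Ci ⊗[Bi] (Bi ⊗[B] M) ≃ₗ[Ci] Ci ⊗[C] (C ⊗[B] M) :=
    (AlgebraTensorModule.cancelBaseChange B Bi Ci Ci M).trans (AlgebraTensorModule.cancelBaseChange B C Ci Ci M).symm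
  haveI : Module.Flat Ci (Ci ⊗[C] (C ⊗[B] M)) := Module.Flat.of_linearEquiv e.symm
  haveI : Module.Flat C Ci := IsLocalization.flat Ci (Submonoid.powers (algebraMap B C (φ i)))
  exact Module.Flat.trans C Ci (Ci ⊗[C] (C ⊗[B] M))

theorem Uni.faithfullyFlat (C : Type*) [CommRing C] [Algebra B C] (hC : Uni φ C)
    (hM : ∀ i, Module.FaithfullyFlat (Localization.Away (φ i)) (Localization.Away (φ i) ⊗[B] M)) :
    Module.FaithfullyFlat C (C ⊗[B] M) := by
  haveI := hC.flat C (M := M) fun i => (hM i).toFlat
  refine { submodule_ne_top := fun m hm => ?_ }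
  intro h
  -- some `φ i` is not in `m`
  obtain ⟨i, hi⟩ : ∃ i, algebraMap B C (φ i) ∉ m := by
    by_contra hcon
    push Not at hcon
    refine hm.ne_top (top_le_iff.1 ?_)
    rw [← hC, Ideal.span_le]
    rintro _ ⟨i, rfl⟩
    exact hcon i
  let κ := C ⧸ m
  letI : Field κ := Ideal.Quotient.field m
  have hu : IsUnit (algebraMap B κ (φ i)) := by
    rw [isUnit_iff_ne_zero, IsScalarTower.algebraMap_apply B C κ]
    exact fun h0 => hi (Ideal.Quotient.eq_zero_iff_mem.1 h0)
  let Bi := Localization.Away (φ i)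
  letI : Algebra Bi κ := (IsLocalization.Away.lift (φ i) hu).toAlgebra
  haveI : IsScalarTower B Bi κ := IsScalarTower.of_algebraMap_eq fun b =>
    (IsLocalization.Away.lift_eq (φ i) hu b).symm
  haveI := hM i
  have h1 : Nontrivial (κ ⊗[Bi] (Bi ⊗[B] M)) := inferInstance
  have h2 : Nontrivial (κ ⊗[B] M) := (AlgebraTensorModule.cancelBaseChange B Bi κ κ M).symm.toEquiv.nontrivial
  have h3 : Nontrivial (κ ⊗[C] (C ⊗[B] M)) := (AlgebraTensorModule.cancelBaseChange B C κ κ M).toEquiv.nontrivial
  have h4 : Nontrivial ((C ⊗[B] M) ⧸ m • (⊤ : Submodule C (C ⊗[B] M))) :=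
    (TensorProduct.quotTensorEquivQuotSMul (C ⊗[B] M) m).symm.toEquiv.nontrivial
  exact (Submodule.Quotient.nontrivial_iff.1 h4) h

end Flat

section Elt

/-- elementwise form: `u` is bijective after inverting `f` -/
def LocBij (f : B) {X Y : Type*} [AddCommGroup X] [Module B X] [AddCommGroup Y] [Module B Y] (u : X →ₗ[B] Y) : Prop :=
  (∀ x, u x = 0 → ∃ n : ℕ, f ^ n • x = 0) ∧ ∀ y, ∃ (n : ℕ) (x : X), u x = f ^ n • y

theorem LocBij.bijective_lTensor {f : B} {X Y : Type*} [AddCommGroup X] [Module B X] [AddCommGroup Y] [Module B Y]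
    {u : X →ₗ[B] Y} (h : LocBij f u) : Function.Bijective (u.lTensor (Localization.Away f)) := by
  let S := Submonoid.powers f
  let gX := TensorProduct.mk B (Localization.Away f) X 1
  let gY := TensorProduct.mk B (Localization.Away f) Y 1
  haveI : IsLocalizedModule S gX := inferInstance
  haveI : IsLocalizedModule S gY := inferInstance
  constructor
  · rw [injective_iff_map_eq_zero]
    intro z hz
    obtain ⟨⟨x, ⟨_, n, rfl⟩⟩, hx⟩ := IsLocalizedModule.mk'_surjective S gX z
    have h1 : f ^ n • z = gX x := by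
      rw [← hx]
      exact IsLocalizedModule.mk'_cancel' (S := S) gX x ⟨_, n, rfl⟩
    have h2 : gY (u x) = 0 := by
      have := congrArg (u.lTensor (Localization.Away f)) h1
      rw [LinearMap.map_smul, hz, smul_zero] at this
      exact this.symm
    obtain ⟨⟨_, m, rfl⟩, hc⟩ := (IsLocalizedModule.eq_zero_iff S gY).1 h2
    have hc' : u (f ^ m • x) = 0 := by rw [map_smul]; exact hc
    obtain ⟨k, hk⟩ := h.1 _ hc'
    have h3 : gX x = 0 := by
      rw [IsLocalizedModule.eq_zero_iff S gX]
      refine ⟨⟨f ^ (k + m), k + m, rfl⟩, ?_⟩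
      change f ^ (k + m) • x = 0
      rw [pow_add, mul_smul, hk]
    rw [← hx]
    rw [h3] at h1
    have hunit := IsLocalizedModule.map_units gX (⟨f ^ n, n, rfl⟩ : Submonoid.powers f)
    rw [Module.End.isUnit_iff] at hunit
    exact hx.trans (hunit.1 (by
      rw [map_zero]
      exact h1))
  · intro z
    obtain ⟨⟨y, ⟨_, n, rfl⟩⟩, hy⟩ := IsLocalizedModule.mk'_surjective S gY z
    obtain ⟨k, x, hx⟩ := h.2 y
    refine ⟨IsLocalizedModule.mk' gX x (⟨f ^ (k + n), k + n, rfl⟩ : Submonoid.powers f), ?_⟩
    have hunit := IsLocalizedModule.map_units gY (⟨f ^ (k + n), k + n, rfl⟩ : Submonoid.powers f)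
    rw [Module.End.isUnit_iff] at hunit
    apply hunit.1
    change f ^ (k + n) • (u.lTensor (Localization.Away f)) (IsLocalizedModule.mk' gX x
      (⟨f ^ (k + n), k + n, rfl⟩ : Submonoid.powers f)) = f ^ (k + n) • z
    rw [← LinearMap.map_smul]
    have h1 : f ^ (k + n) • IsLocalizedModule.mk' gX x (⟨f ^ (k + n), k + n, rfl⟩ : Submonoid.powers f) = gX x :=
      IsLocalizedModule.mk'_cancel' (S := S) gX x ⟨_, k + n, rfl⟩
    rw [h1]
    have h2 : f ^ n • z = gY y := by
      rw [← hy]
      exact IsLocalizedModule.mk'_cancel' (S := S) gY y ⟨_, n, rfl⟩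
    rw [pow_add, mul_smul, h2, ← map_smul, ← hx]
    rfl

theorem Uni.bijective_baseChange' {X Y : Type*} [AddCommGroup X] [Module B X] [AddCommGroup Y] [Module B Y]
    (u : X →ₗ[B] Y) (C : Type*) [CommRing C] [Algebra B C] (hC : Uni φ C) (hu : ∀ i, LocBij (φ i) u) :
    Function.Bijective (u.lTensor C) :=
  hC.bijective_baseChange u C fun i => (hu i).bijective_lTensor

/-- faithful flatness of a localized ring map, in the form needed above -/
theorem ff_tensor_of_away {D : Type*} [CommRing D] [Algebra B D] (f : B) {B' D' : Type*} [CommRing B'] [CommRing D']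
    [Algebra B B'] [Algebra D D'] [IsLocalization.Away f B'] [IsLocalization.Away (algebraMap B D f) D']
    (g : B' →+* D') (hg : g.comp (algebraMap B B') = (algebraMap D D').comp (algebraMap B D))
    (hff : g.FaithfullyFlat) : Module.FaithfullyFlat (Localization.Away f) (Localization.Away f ⊗[B] D) := by
  letI := g.toAlgebra
  haveI : Module.FaithfullyFlat B' D' := hff
  letI : Algebra B D' := ((algebraMap D D').comp (algebraMap B D)).toAlgebra
  haveI : IsScalarTower B B' D' := IsScalarTower.of_algebraMap_eq fun b => (RingHom.congr_fun hg b).symm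
  haveI : IsScalarTower B D D' := IsScalarTower.of_algebraMap_eq fun b => rfl
  haveI : IsLocalization (Algebra.algebraMapSubmonoid D (Submonoid.powers f)) D' := by
    rw [Algebra.algebraMapSubmonoid_powers]
    infer_instance
  haveI : Algebra.IsPushout B B' D D' := (Algebra.isPushout_of_isLocalization (Submonoid.powers f) B' D D').symm
  haveI h1 : Module.FaithfullyFlat B' (B' ⊗[B] D) :=
    Module.FaithfullyFlat.of_linearEquiv B' _ (Algebra.IsPushout.equiv B B' D D').toLinearEquiv
  let Bi := Localization.Away f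
  letI : Algebra B' Bi := (IsLocalization.Away.lift (S := B') f
    (IsLocalization.Away.algebraMap_isUnit (S := Bi) f)).toAlgebra
  haveI : IsScalarTower B B' Bi := IsScalarTower.of_algebraMap_eq fun b =>
    (IsLocalization.Away.lift_eq f (IsLocalization.Away.algebraMap_isUnit (S := Bi) f) b).symm
  haveI h2 : Module.FaithfullyFlat Bi (Bi ⊗[B'] (B' ⊗[B] D)) := inferInstance
  exact Module.FaithfullyFlat.of_linearEquiv Bi _ (AlgebraTensorModule.cancelBaseChange B B' Bi Bi D).symm

end Elt

end Groth.Agent.ResProp.EF.K58
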