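import Groth.Agent.ResProp.EF.K58.Galois
import Groth.Agent.Grpsch.AffGrpd

/-!
# The fields `C`, `D`, `ff`, `ph`, `po` of `K412.RCover` for `D = Fr` over `D₀`

`G : RGrpd A B`, `B₀ → D₀ ⇉ E₀ = D₀ ⊗_A B`.
-/

set_option autoImplicit false
set_option linter.style.haveILetI false
set_option linter.unusedSectionVars false

open TensorProduct CategoryTheory Limits K784.BC Groth.Agent.Grpsch.AffGrpd

namespace Groth.Agent.ResProp.EF.K58

universe u

theorem IsPO.existsUnique {R R' A B : Type u} [CommRing R] [CommRing R'] [CommRing A] [CommRing B] {ρ : R →+* R'}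
    {α : R →+* A} {β : R' →+* B} {ψ : A →+* B} (h : IsPO ρ α β ψ) {T : Type u} [CommRing T] (f : R' →+* T)
    (g : A →+* T) (e : f.comp ρ = g.comp α) : ∃! l : B →+* T, l.comp β = f ∧ l.comp ψ = g := by
  have h' : IsPushout (CommRingCat.ofHom ρ) (CommRingCat.ofHom α) (CommRingCat.ofHom β) (CommRingCat.ofHom ψ) := h
  have e' : CommRingCat.ofHom ρ ≫ CommRingCat.ofHom f = CommRingCat.ofHom α ≫ CommRingCat.ofHom g := by
    rw [← CommRingCat.ofHom_comp, ← CommRingCat.ofHom_comp, e]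
  refine ⟨(h'.desc _ _ e').hom, ⟨congrArg CommRingCat.Hom.hom (h'.inl_desc _ _ e'),
    congrArg CommRingCat.Hom.hom (h'.inr_desc _ _ e')⟩, fun l hl => ?_⟩
  have : CommRingCat.ofHom l = h'.desc _ _ e' := by
    refine h'.hom_ext ?_ ?_
    · rw [h'.inl_desc, ← CommRingCat.ofHom_comp, hl.1]
    · rw [h'.inr_desc, ← CommRingCat.ofHom_comp, hl.2]
  exact congrArg CommRingCat.Hom.hom this

section

variable {n : Type} [Fintype n] [DecidableEq n] (i₀ : n) {B0 : Type u} [CommRing B0] (φ : n → B0)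

/-- `C` -/
abbrev CF : Type u := Fr i₀ φ

variable (D0 : Type u) [CommRing D0] [Algebra B0 D0]

/-- `D` (also `E`, for `D0 = E0`) -/
abbrev DF : Type u := Fr i₀ (fun i => algebraMap B0 D0 (φ i))

/-- `C → D` -/
noncomputable abbrev cd : CF i₀ φ →+* DF i₀ φ D0 :=
  Fr.map (i₀ := i₀) (φ := φ) (φ' := fun i => algebraMap B0 D0 (φ i)) (algebraMap B0 D0) (fun _ => rfl)

@[reducible] noncomputable def algCD : Algebra (CF i₀ φ) (DF i₀ φ D0) := (cd i₀ φ D0).toAlgebra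

variable {D0} {E0 : Type u} [CommRing E0] [Algebra B0 E0]

/-- the map `D → E` -/
noncomputable abbrev de (a : D0 →ₐ[B0] E0) : DF i₀ φ D0 →+* DF i₀ φ E0 :=
  Fr.map (i₀ := i₀) (φ := fun i => algebraMap B0 D0 (φ i)) (φ' := fun i => algebraMap B0 E0 (φ i))
    (a : D0 →+* E0) (fun i => a.commutes (φ i))

theorem de_cd (a : D0 →ₐ[B0] E0) : (de i₀ φ a).comp (cd i₀ φ D0) = cd i₀ φ E0 :=
  Fr.map_comp_eq (i₀ := i₀) (φ := φ) (φ' := fun i => algebraMap B0 D0 (φ i)) (φ'' := fun i => algebraMap B0 E0 (φ i))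
    (fun _ => rfl) (fun i => a.commutes (φ i)) (fun _ => rfl) (RingHom.ext fun x => a.commutes x)

/-- `D → E` over `C` -/
noncomputable def deA (a : D0 →ₐ[B0] E0) :
    letI := algCD i₀ φ D0; letI := algCD i₀ φ E0; DF i₀ φ D0 →ₐ[CF i₀ φ] DF i₀ φ E0 :=
  letI := algCD i₀ φ D0; letI := algCD i₀ φ E0
  { de i₀ φ a with commutes' := fun c => RingHom.congr_fun (de_cd i₀ φ a) c }

theorem cd_ff (h : ∀ i, Module.FaithfullyFlat (Localization.Away (φ i)) (Localization.Away (φ i) ⊗[B0] D0)) :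
    letI := algCD i₀ φ D0; Module.FaithfullyFlat (CF i₀ φ) (DF i₀ φ D0) :=
  Fr.faithfullyFlat_map (i₀ := i₀) φ h

variable (a b : D0 →ₐ[B0] E0) (h : ∀ i, LocBij (φ i) (Algebra.TensorProduct.productMap a b).toLinearMap)

/-- `D ⊗_C D ≅ E` -/
noncomputable def eE : letI := algCD i₀ φ D0; DF i₀ φ D0 ⊗[CF i₀ φ] DF i₀ φ D0 ≃+* DF i₀ φ E0 :=
  letI := algCD i₀ φ D0; letI := algCD i₀ φ E0
  RingEquiv.ofBijective (Algebra.TensorProduct.productMap (deA i₀ φ a) (deA i₀ φ b))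
    (bijective_productMap (deA i₀ φ a) (deA i₀ φ b) (Fr.isPO_galois (i₀ := i₀) a b φ h))

theorem eE_left (z : DF i₀ φ D0) : letI := algCD i₀ φ D0; eE i₀ φ a b h (z ⊗ₜ[CF i₀ φ] 1) = de i₀ φ a z := by
  letI := algCD i₀ φ D0; letI := algCD i₀ φ E0
  exact Algebra.TensorProduct.productMap_left_apply (deA i₀ φ a) (deA i₀ φ b) z

theorem eE_right (z : DF i₀ φ D0) : letI := algCD i₀ φ D0; eE i₀ φ a b h (1 ⊗ₜ[CF i₀ φ] z) = de i₀ φ b z := by
  letI := algCD i₀ φ D0; letI := algCD i₀ φ E0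
  exact Algebra.TensorProduct.productMap_right_apply (deA i₀ φ a) (deA i₀ φ b) z

end

section Ph

variable {n : Type} [Fintype n] [DecidableEq n] (i₀ : n) {B0 : Type u} [CommRing B0] (φ : n → B0)
  {D0 : Type u} [CommRing D0] [Algebra B0 D0] {E0 : Type u} [CommRing E0] [Algebra B0 E0]
  (a b : D0 →ₐ[B0] E0) (h : ∀ i, LocBij (φ i) (Algebra.TensorProduct.productMap a b).toLinearMap)
  {A B : Type u} [CommRing A] [CommRing B] (G : RGrpd A B) [Algebra A D0] (β : B →+* E0)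

/-- `ph` -/
noncomputable def ph : letI := algCD i₀ φ D0; B →+* DF i₀ φ D0 ⊗[CF i₀ φ] DF i₀ φ D0 :=
  letI := algCD i₀ φ D0
  ((eE i₀ φ a b h).symm : DF i₀ φ E0 →+* DF i₀ φ D0 ⊗[CF i₀ φ] DF i₀ φ D0).comp ((algebraMap E0 (DF i₀ φ E0)).comp β)

theorem eE_ph (x : B) : letI := algCD i₀ φ D0
    eE i₀ φ a b h (ph i₀ φ a b h β x) = algebraMap E0 (DF i₀ φ E0) (β x) := by
  letI := algCD i₀ φ D0
  exact (eE i₀ φ a b h).apply_symm_apply _

variable {G β} (po : IsPO G.s (algebraMap A D0) β (a : D0 →+* E0)) (bt : (b : D0 →+* E0).comp (algebraMap A D0) = β.comp G.t)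

include po in
theorem ph_s (x : A) : letI := algCD i₀ φ D0
    ph i₀ φ a b h β (G.s x) = algebraMap A (DF i₀ φ D0) x ⊗ₜ[CF i₀ φ] 1 := by
  letI := algCD i₀ φ D0
  apply (eE i₀ φ a b h).injective
  refine (eE_ph i₀ φ a b h β _).trans (Eq.trans ?_ (eE_left i₀ φ a b h _).symm)
  rw [IsScalarTower.algebraMap_apply A D0 (DF i₀ φ D0)]
  refine Eq.trans ?_ (Fr.map_algebraMap (i₀ := i₀) (φ := fun i => algebraMap B0 D0 (φ i))
    (φ' := fun i => algebraMap B0 E0 (φ i)) (a : D0 →+* E0) (fun i => a.commutes (φ i)) _).symm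
  exact congrArg _ (RingHom.congr_fun po.comm x)

include bt in
theorem ph_t (x : A) : letI := algCD i₀ φ D0
    ph i₀ φ a b h β (G.t x) = 1 ⊗ₜ[CF i₀ φ] algebraMap A (DF i₀ φ D0) x := by
  letI := algCD i₀ φ D0
  apply (eE i₀ φ a b h).injective
  refine (eE_ph i₀ φ a b h β _).trans (Eq.trans ?_ (eE_right i₀ φ a b h _).symm)
  rw [IsScalarTower.algebraMap_apply A D0 (DF i₀ φ D0)]
  refine Eq.trans ?_ (Fr.map_algebraMap (i₀ := i₀) (φ := fun i => algebraMap B0 D0 (φ i))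
    (φ' := fun i => algebraMap B0 E0 (φ i)) (b : D0 →+* E0) (fun i => b.commutes (φ i)) _).symm
  exact congrArg _ (RingHom.congr_fun bt x).symm

include po in
theorem ph_po {T : Type u} [CommRing T] (d : DF i₀ φ D0 →+* T) (γ : B →+* T)
    (hγ : γ.comp G.s = d.comp (algebraMap A (DF i₀ φ D0))) : letI := algCD i₀ φ D0
    ∃! r : DF i₀ φ D0 ⊗[CF i₀ φ] DF i₀ φ D0 →+* T, (∀ z, r (z ⊗ₜ 1) = d z) ∧ r.comp (ph i₀ φ a b h β) = γ := by
  letI := algCD i₀ φ D0
  obtain ⟨e0, ⟨h1, h2⟩, hu0⟩ := IsPO.existsUnique po γ (d.comp (algebraMap D0 (DF i₀ φ D0))) (by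
    rw [hγ, RingHom.comp_assoc, ← IsScalarTower.algebraMap_eq])
  have poE : IsPO (a : D0 →+* E0) (algebraMap D0 (DF i₀ φ D0)) (algebraMap E0 (DF i₀ φ E0)) (de i₀ φ a) :=
    Fr.isPO (i₀ := i₀) (φ := fun i => algebraMap B0 D0 (φ i)) (φ' := fun i => algebraMap B0 E0 (φ i)) (a : D0 →+* E0)
      (fun i => a.commutes (φ i))
  obtain ⟨e, ⟨h3, h4⟩, hu⟩ := IsPO.existsUnique poE e0 d h2
  refine ⟨e.comp (eE i₀ φ a b h : _ →+* _), ⟨fun z => ?_, ?_⟩, fun r' hr' => ?_⟩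
  · exact (congrArg e (eE_left i₀ φ a b h z)).trans (RingHom.congr_fun h4 z)
  · refine RingHom.ext fun x => ?_
    refine (congrArg e (eE_ph i₀ φ a b h β x)).trans ?_
    have : (e.comp (algebraMap E0 (DF i₀ φ E0))) (β x) = γ x := by
      rw [h3]
      exact RingHom.congr_fun h1 x
    exact this
  · -- uniqueness
    let e' : DF i₀ φ E0 →+* T := r'.comp ((eE i₀ φ a b h).symm : _ →+* _)
    have h5 : e'.comp (de i₀ φ a) = d := RingHom.ext fun z => by
      refine Eq.trans ?_ (hr'.1 z)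
      refine congrArg r' ?_
      exact (RingEquiv.symm_apply_eq _).2 (eE_left i₀ φ a b h z).symm
    have h6 : (e'.comp (algebraMap E0 (DF i₀ φ E0))).comp β = γ := RingHom.ext fun x => by
      exact RingHom.congr_fun hr'.2 x
    have h7 : (e'.comp (algebraMap E0 (DF i₀ φ E0))).comp (a : D0 →+* E0) = d.comp (algebraMap D0 (DF i₀ φ D0)) := by
      calc (e'.comp (algebraMap E0 (DF i₀ φ E0))).comp (a : D0 →+* E0)
          = e'.comp ((algebraMap E0 (DF i₀ φ E0)).comp (a : D0 →+* E0)) := RingHom.comp_assoc _ _ _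
        _ = e'.comp ((de i₀ φ a).comp (algebraMap D0 (DF i₀ φ D0))) := congrArg _ poE.comm
        _ = (e'.comp (de i₀ φ a)).comp (algebraMap D0 (DF i₀ φ D0)) := (RingHom.comp_assoc _ _ _).symm
        _ = d.comp (algebraMap D0 (DF i₀ φ D0)) := by rw [h5]
    have h8 : e' = e := hu e' ⟨hu0 _ ⟨h6, h7⟩, h5⟩
    rw [← h8]
    refine RingHom.ext fun z => ?_
    exact (congrArg r' ((eE i₀ φ a b h).symm_apply_apply z)).symm

end Ph

end Groth.Agent.ResProp.EF.K58
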