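import Groth.Agent.ResProp.EF.K58.Frame
import Groth.Agent.ResProp.EF.K412.Mid

/-!
# The `s_IJ` generate the unit ideal of `D = Fr` over `D₀` (field `span` of `FinDatum`)
-/

set_option autoImplicit false
set_option linter.style.haveILetI false
set_option linter.unusedSectionVars false

open TensorProduct Groth.Agent.Grpsch.AffGrpd Groth.Agent.ResProp.EF.K412

namespace Groth.Agent.ResProp.EF.K58

universe u

variable {A B : Type u} [CommRing A] [CommRing B] {Lb : Type u} [CommRing Lb] [Algebra Lb A] {G : RGrpd A B}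
  {D : Gen Lb G} {κ : Type u} [Field κ] {x : A →+* κ} {F : FrRing D x}

theorem span_sIJ (M : MidData F) {n : Type} [Fintype n] [DecidableEq n] (i₀ : n) (φ : n → M.B0) (hφ : ∀ i, φ i ∈ M.I) :
    Ideal.span (Set.range fun z => algebraMap M.D0 (Fr i₀ fun i => algebraMap M.B0 M.D0 (φ i))
      (algebraMap F.R M.D0 (K819.sIJ F z))) = ⊤ := by
  by_contra hne
  obtain ⟨Q, hQ, hle⟩ := Ideal.exists_le_maximal _ hne
  have hQp := hQ.isPrime
  let P : Ideal M.D0 := Q.comap (algebraMap M.D0 (Fr i₀ fun i => algebraMap M.B0 M.D0 (φ i)))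
  have hP : P.IsPrime := Ideal.comap_isPrime _ _
  have h1 : ¬ ∃ z, algebraMap F.R M.D0 (K819.sIJ F z) ∉ P := by
    rintro ⟨z, hz⟩
    exact hz (hle (Ideal.subset_span ⟨z, rfl⟩))
  have h2 : M.I ≤ P.comap (algebraMap M.B0 M.D0) := by
    by_contra hcon
    exact h1 ((M.cov P hP).2 hcon)
  refine hQp.ne_top (top_le_iff.1 ?_)
  rw [← Fr.uni i₀ (fun i => algebraMap M.B0 M.D0 (φ i)), Ideal.span_le]
  rintro _ ⟨i, rfl⟩
  exact h2 (hφ i)

end Groth.Agent.ResProp.EF.K58
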