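import Groth.Agent.ResProp.EF.K58.HH
import Groth.Agent.ResProp.EF.K58.Out
import Groth.Agent.ResProp.EF.K58.Span
import Groth.Agent.ResProp.EF.K412.Asm

/-!
# M4 + M5: `C = Fr φ` over `B₀`, `D` over `D₀`, `R₁` over `D₁`, in the form of `K412/Asm.lean`
-/

set_option autoImplicit false
set_option linter.style.haveILetI false
set_option linter.unusedSectionVars false

open TensorProduct Matrix CategoryTheory Limits K784.BC Groth.Agent.Grpsch.AffGrpd Groth.Agent.ResProp.EF.K412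
  Groth.Agent.ResProp.EF.K83 Groth.Agent.ResProp.EF.K374

namespace Groth.Agent.ResProp.EF.K58

universe u

section General

theorem isPO_of_existsUnique {R R' A B : Type u} [CommRing R] [CommRing R'] [CommRing A] [CommRing B] {ρ : R →+* R'}
    {α : R →+* A} {β : R' →+* B} {ψ : A →+* B} (w : β.comp ρ = ψ.comp α)
    (h : ∀ {T : Type u} [CommRing T] (f : R' →+* T) (g : A →+* T), f.comp ρ = g.comp α →
      ∃! l : B →+* T, l.comp β = f ∧ l.comp ψ = g) : IsPO ρ α β ψ := by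
  refine ⟨⟨?_⟩, ⟨PushoutCocone.IsColimit.mk _
    (fun s => CommRingCat.ofHom (h s.inl.hom s.inr.hom (congrArg CommRingCat.Hom.hom s.condition)).choose)
    (fun s => ?_) (fun s => ?_) (fun s m h1 h2 => ?_)⟩⟩
  · exact CommRingCat.hom_ext w
  · exact CommRingCat.hom_ext (h s.inl.hom s.inr.hom (congrArg CommRingCat.Hom.hom s.condition)).choose_spec.1.1
  · exact CommRingCat.hom_ext (h s.inl.hom s.inr.hom (congrArg CommRingCat.Hom.hom s.condition)).choose_spec.1.2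
  · exact CommRingCat.hom_ext ((h s.inl.hom s.inr.hom (congrArg CommRingCat.Hom.hom s.condition)).choose_spec.2 m.hom
      ⟨congrArg CommRingCat.Hom.hom h1, congrArg CommRingCat.Hom.hom h2⟩)

variable {k : Type u} [CommRing k] {t : ℕ} {G' : Grp.Gp k} {D0 D0' : Type u} [CommRing D0] [Algebra k D0]
  [CommRing D0'] [Algebra k D0'] {c0 : CoAlg k G'.O D0} {c0' : CoAlg k G'.O D0'} {φ : Fin (t + 1) → D0}
  {φ' : Fin (t + 1) → D0'} {R : Matrix (Fin (t + 1)) (Fin (t + 1)) G'.O}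

/-- `Fr.mapA f` is equivariant if `f` is -/
theorem cD_map (hR : IsMatCo k R) (hφ : ∀ j, c0.ρ (φ j) = ∑ i, φ i ⊗ₜ[k] R i j)
    (hφ' : ∀ j, c0'.ρ (φ' j) = ∑ i, φ' i ⊗ₜ[k] R i j) (f : D0 →ₐ[k] D0') (hf : ∀ i, (f : D0 →+* D0') (φ i) = φ' i)
    (hc : ∀ x, c0'.ρ (f x) = Algebra.TensorProduct.map f (AlgHom.id k G'.O) (c0.ρ x))
    (z : Fr (0 : Fin (t + 1)) φ) : (cD hR hφ').ρ (Fr.mapA (i₀ := 0) f hf z) =
      Algebra.TensorProduct.map (Fr.mapA (i₀ := (0 : Fin (t + 1))) f hf) (AlgHom.id k (HH k t G').O) ((cD hR hφ).ρ z) := by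
  refine FrData.map_ρ (frd hR hφ) (frd hR hφ') f hf (fun x => ?_) z
  change Algebra.TensorProduct.map (AlgHom.id k D0') ((iG k t G' : G'.O →ₐc[k] (HH k t G').O) : G'.O →ₐ[k] (HH k t G').O)
    (c0'.ρ (f x)) = Algebra.TensorProduct.map f (AlgHom.id k (HH k t G').O) (Algebra.TensorProduct.map (AlgHom.id k D0)
    ((iG k t G' : G'.O →ₐc[k] (HH k t G').O) : G'.O →ₐ[k] (HH k t G').O) (c0.ρ x))
  rw [hc]
  induction c0.ρ x using TensorProduct.induction_on with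
  | zero => simp only [map_zero]
  | tmul a b => rfl
  | add a b ha hb => simp only [map_add, ha, hb]

/-- invariants stay invariant -/
theorem cD_inv (hR : IsMatCo k R) (hφ : ∀ j, c0.ρ (φ j) = ∑ i, φ i ⊗ₜ[k] R i j) (x : D0) (hx : c0.ρ x = x ⊗ₜ 1) :
    (cD hR hφ).ρ (algebraMap D0 (Fr (0 : Fin (t + 1)) φ) x) = algebraMap D0 (Fr (0 : Fin (t + 1)) φ) x ⊗ₜ 1 := by
  rw [cD_algebraMap, hx, Algebra.TensorProduct.map_tmul, map_one]
  rfl

end General

section Mid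

variable {A B : Type u} [CommRing A] [CommRing B] {Lb : Type u} [CommRing Lb] [Algebra Lb A] {G : RGrpd A B}
  {D : Gen Lb G} {κ : Type u} [Field κ] {x : A →+* κ} {F : FrRing D x} (M : MidData F) {G' : Grp.Gp Lb}
  {X : Matrix (Fin F.r1) (Fin F.r1) G'.O} {Xm : Matrix (Fin F.rm) (Fin F.rm) G'.O} {hX : K62.IsMulMat Lb X}
  {hXm : K62.IsMulMat Lb Xm} (c : CoMid M hX hXm) (P : PhiDat M c.cB)

/-- `C` -/
abbrev CC {M : MidData F} {c : CoMid M hX hXm} (P : PhiDat M c.cB) : Type u := CF (0 : Fin (P.N + 1)) P.φ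

/-- `D` -/
abbrev DD {M : MidData F} {c : CoMid M hX hXm} (P : PhiDat M c.cB) : Type u := DF (0 : Fin (P.N + 1)) P.φ M.D0

/-- `R₁ = D ⊗_C D` -/
abbrev RR {M : MidData F} {c : CoMid M hX hXm} (P : PhiDat M c.cB) : Type u := DF (0 : Fin (P.N + 1)) P.φ M.D1

variable {M c}

/-- `C → D` -/
noncomputable abbrev cm : CC P →+* DD P := cd 0 P.φ M.D0

/-- `σ : D → R₁` -/
noncomputable abbrev sg : DD P →+* RR P := de 0 P.φ M.σa

/-- `τ : D → R₁` -/
noncomputable abbrev ta : DD P →+* RR P := de 0 P.φ M.τa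

/-- `B → R₁` -/
noncomputable def gg : B →+* RR P := (algebraMap M.D1 (RR P)).comp M.g

/-- `A → D` -/
noncomputable def pp : A →+* DD P := (algebraMap M.D0 (DD P)).comp M.p

/-- (1) -/
theorem cm_ff : (cm P).FaithfullyFlat :=
  Fr.faithfullyFlat_map (i₀ := 0) P.φ fun i => M.ff _ (P.mem i)

/-- (2) -/
theorem isPO_cm : IsPO (cm P) (cm P) (sg P) (ta P) :=
  Fr.isPO_galois (i₀ := 0) M.σa M.τa P.φ fun i => M.gal _ (P.mem i)

theorem isPO_D1 (M : MidData F) : IsPO G.s M.p M.g M.σ :=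
  isPO_of_existsUnique M.hg fun f g h => by
    obtain ⟨r, ⟨h1, h2⟩, h3⟩ := M.po g f h
    exact ⟨r, ⟨h2, h1⟩, fun r' hr' => h3 r' ⟨hr'.2, hr'.1⟩⟩

/-- (4) -/
theorem isPO_gg : IsPO G.s (pp P) (gg P) (sg P) := by
  have s1 : IsPushout (CommRingCat.ofHom G.s) (CommRingCat.ofHom M.p) (CommRingCat.ofHom M.g) (CommRingCat.ofHom M.σ) :=
    isPO_D1 M
  have s2 : IsPushout (CommRingCat.ofHom M.σ) (CommRingCat.ofHom (algebraMap M.D0 (DD P)))
      (CommRingCat.ofHom (algebraMap M.D1 (RR P))) (CommRingCat.ofHom (sg P)) := by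
    have := Fr.isPO (i₀ := (0 : Fin (P.N + 1))) (φ := fun i => algebraMap M.B0 M.D0 (P.φ i))
      (φ' := fun i => algebraMap M.B0 M.D1 (P.φ i)) (M.σa : M.D0 →+* M.D1) (fun i => M.σa.commutes (P.φ i))
    have e : (M.σa : M.D0 →+* M.D1) = M.σ := M.σa_eq
    rw [← e]
    exact this
  exact s1.paste_vert s2

theorem ta_pp : (ta P).comp (pp P) = (gg P).comp G.t := by
  have e : (M.τa : M.D0 →+* M.D1) = M.τ := M.τa_eq
  have h1 : (ta P).comp (algebraMap M.D0 (DD P)) = (algebraMap M.D1 (RR P)).comp (M.τa : M.D0 →+* M.D1) :=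
    Fr.map_comp_algebraMap _ _
  rw [pp, ← RingHom.comp_assoc, h1, e, RingHom.comp_assoc, M.τ_p, gg, RingHom.comp_assoc]

/-! ### coactions -/

theorem rho_B (j : Fin (P.N + 1)) : c.cB.ρ (P.φ j) = ∑ i, P.φ i ⊗ₜ[Lb] P.R i j := P.rho j

theorem rho_D (j : Fin (P.N + 1)) : c.c0.ρ (algebraMap M.B0 M.D0 (P.φ j)) =
    ∑ i, algebraMap M.B0 M.D0 (P.φ i) ⊗ₜ[Lb] P.R i j := by
  rw [c.cB_D, P.rho, map_sum]
  rfl

theorem rho_1 (j : Fin (P.N + 1)) : c.c1.ρ (algebraMap M.B0 M.D1 (P.φ j)) =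
    ∑ i, algebraMap M.B0 M.D1 (P.φ i) ⊗ₜ[Lb] P.R i j := by
  have e : ∀ b, algebraMap M.B0 M.D1 b = M.σ (algebraMap M.B0 M.D0 b) := fun b => RingHom.congr_fun M.algB1_eq b
  rw [e, c.c1_σ, rho_D P, map_sum]
  refine Finset.sum_congr rfl fun i _ => ?_
  rw [Algebra.TensorProduct.map_tmul, e]
  rfl

/-- coaction on `C` -/
noncomputable def coC : CoAlg Lb (HH Lb P.N G').O (CC P) := cD P.co (rho_B P)

/-- coaction on `D` -/
noncomputable def coD : CoAlg Lb (HH Lb P.N G').O (DD P) := cD P.co (rho_D P)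

/-- coaction on `R₁` -/
noncomputable def coR : CoAlg Lb (HH Lb P.N G').O (RR P) := cD P.co (rho_1 P)

/-- `C → D` over `Lb` -/
noncomputable def cmA : CC P →ₐ[Lb] DD P :=
  Fr.mapA (i₀ := 0) (IsScalarTower.toAlgHom Lb M.B0 M.D0) (fun _ => rfl)

/-- `σ` over `Lb` -/
noncomputable def sgA : DD P →ₐ[Lb] RR P :=
  Fr.mapA (i₀ := 0) (φ := fun i => algebraMap M.B0 M.D0 (P.φ i)) (φ' := fun i => algebraMap M.B0 M.D1 (P.φ i)) M.σk
    (fun i => (RingHom.congr_fun M.algB1_eq (P.φ i)).symm)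

/-- `τ` over `Lb` -/
noncomputable def taA : DD P →ₐ[Lb] RR P :=
  Fr.mapA (i₀ := 0) (φ := fun i => algebraMap M.B0 M.D0 (P.φ i)) (φ' := fun i => algebraMap M.B0 M.D1 (P.φ i)) M.τk
    (fun i => (M.τ_B (P.φ i)).trans (RingHom.congr_fun M.algB1_eq (P.φ i)).symm)

theorem cmA_eq : (cmA P : CC P →+* DD P) = cm P := rfl

theorem Fr_map_congr {B B' : Type u} [CommRing B] [CommRing B'] {n : Type} [Fintype n] [DecidableEq n] {i₀ : n}
    {φ : n → B} {φ' : n → B'} {f f' : B →+* B'} (e : f = f') (h : ∀ i, f (φ i) = φ' i) (h' : ∀ i, f' (φ i) = φ' i) :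
    Fr.map (i₀ := i₀) f h = Fr.map (i₀ := i₀) f' h' := by
  subst e
  rfl

theorem sgA_eq : (sgA P : DD P →+* RR P) = sg P :=
  Fr_map_congr (i₀ := (0 : Fin (P.N + 1))) (φ := fun i => algebraMap M.B0 M.D0 (P.φ i))
    (φ' := fun i => algebraMap M.B0 M.D1 (P.φ i)) (f := (M.σk : M.D0 →+* M.D1)) (f' := (M.σa : M.D0 →+* M.D1))
    (RingHom.ext fun z => (RingHom.congr_fun M.σa_eq z).symm)
    (fun i => (RingHom.congr_fun M.algB1_eq (P.φ i)).symm) (fun i => M.σa.commutes (P.φ i))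

theorem taA_eq : (taA P : DD P →+* RR P) = ta P :=
  Fr_map_congr (i₀ := (0 : Fin (P.N + 1))) (φ := fun i => algebraMap M.B0 M.D0 (P.φ i))
    (φ' := fun i => algebraMap M.B0 M.D1 (P.φ i)) (f := (M.τk : M.D0 →+* M.D1)) (f' := (M.τa : M.D0 →+* M.D1))
    (RingHom.ext fun z => (RingHom.congr_fun M.τa_eq z).symm)
    (fun i => (M.τ_B (P.φ i)).trans (RingHom.congr_fun M.algB1_eq (P.φ i)).symm) (fun i => M.τa.commutes (P.φ i))

theorem coD_cm (z : CC P) : (coD P).ρ (cmA P z) = Algebra.TensorProduct.map (cmA P) (AlgHom.id Lb _) ((coC P).ρ z) :=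
  cD_map P.co (rho_B P) (rho_D P) (IsScalarTower.toAlgHom Lb M.B0 M.D0) (fun _ => rfl) c.cB_D z

theorem coR_sg (z : DD P) : (coR P).ρ (sgA P z) = Algebra.TensorProduct.map (sgA P) (AlgHom.id Lb _) ((coD P).ρ z) :=
  cD_map P.co (rho_D P) (rho_1 P) M.σk _ c.c1_σ z

theorem coR_ta (z : DD P) : (coR P).ρ (taA P z) = Algebra.TensorProduct.map (taA P) (AlgHom.id Lb _) ((coD P).ρ z) :=
  cD_map P.co (rho_D P) (rho_1 P) M.τk _ c.c1_τ z

/-- the arrow is invariant -/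
theorem coR_gg (b : B) : (coR P).ρ (gg P b) = gg P b ⊗ₜ 1 :=
  cD_inv P.co (rho_1 P) (M.g b) (c.c1_g b)

/-- the coaction is `A`-linear -/
theorem coD_pp (a : A) : (coD P).ρ (pp P a) = pp P a ⊗ₜ 1 := by
  refine cD_inv P.co (rho_D P) (M.p a) ?_
  change c.c0.ρ (algebraMap F.R M.D0 (F.P.a a)) = _
  rw [c.c0_R, K62.rho_a, Algebra.TensorProduct.map_tmul, map_one]
  rfl

/-- the `FrData` of 601 (for the FIN datum) -/
theorem frdD : K601.FrData (i0 := (0 : Fin (P.N + 1))) c.c0 (fun i => algebraMap M.B0 M.D0 (P.φ i)) P.R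
    ((iG Lb P.N G' : G'.O →ₐc[Lb] (HH Lb P.N G').O) : G'.O →ₐ[Lb] (HH Lb P.N G').O) ((mS Lb P.N).map (iS Lb P.N G'))
    (mat (0 : Fin (P.N + 1)) (fun i => algebraMap M.B0 M.D0 (P.φ i))) (coD P) :=
  frd601 P.co (rho_D P)

end Mid

end Groth.Agent.ResProp.EF.K58
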