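import Groth.Agent.ResProp.EF.K58.Frame

/-!
# (c1): `C = Fr φ → D = Fr φ_D` is faithfully flat and Galois

`a b : D₀ → E₀` maps of `B₀`-algebras (`E₀ = D₀ ⊗_A Γ`), `D₀ ⊗_(B₀) D₀ → E₀` bijective and `B₀ → D₀` faithfully flat after
inverting each `φ i`.  Then `Fr φ → Fr φ_D` is faithfully flat and `Fr φ_D ⊗_(Fr φ) Fr φ_D = Fr φ_E`.
-/

set_option autoImplicit false
set_option linter.style.haveILetI false
set_option linter.unusedSectionVars false

open TensorProduct CategoryTheory Limits K784.BC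

namespace Groth.Agent.ResProp.EF.K58

universe u

theorem bijective_productMap {R R' A B : Type u} [CommRing R] [CommRing R'] [CommRing A] [CommRing B] [Algebra R R']
    [Algebra R A] [Algebra R B] (f : R' →ₐ[R] B) (g : A →ₐ[R] B)
    (h : IsPO (algebraMap R R') (algebraMap R A) (f : R' →+* B) (g : A →+* B)) :
    Function.Bijective (Algebra.TensorProduct.productMap f g) := by
  let e := (CommRingCat.isPushout_tensorProduct R R' A).isoIsPushout _ _ h
  have he : (Algebra.TensorProduct.productMap f g : R' ⊗[R] A →+* B) = e.hom.hom := by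
    have h1 : CommRingCat.ofHom (Algebra.TensorProduct.productMap f g : R' ⊗[R] A →+* B) = e.hom := by
      refine (CommRingCat.isPushout_tensorProduct R R' A).hom_ext ?_ ?_
      · refine Eq.trans ?_ (IsPushout.inl_isoIsPushout_hom _ _ (CommRingCat.isPushout_tensorProduct R R' A) h).symm
        ext x
        exact Algebra.TensorProduct.productMap_left_apply f g x
      · refine Eq.trans ?_ (IsPushout.inr_isoIsPushout_hom _ _ (CommRingCat.isPushout_tensorProduct R R' A) h).symm
        ext x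
        exact Algebra.TensorProduct.productMap_right_apply f g x
    exact congrArg CommRingCat.Hom.hom h1
  have h2 : Function.Bijective e.hom.hom := e.commRingCatIsoToRingEquiv.bijective
  have h3 : ⇑(Algebra.TensorProduct.productMap f g) = ⇑e.hom.hom := congrArg DFunLike.coe he
  rw [h3]
  exact h2

theorem isPO_of_bijective_productMap {R R' A B : Type u} [CommRing R] [CommRing R'] [CommRing A] [CommRing B]
    [Algebra R R'] [Algebra R A] [Algebra R B] (f : R' →ₐ[R] B) (g : A →ₐ[R] B)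
    (h : Function.Bijective (Algebra.TensorProduct.productMap f g)) :
    IsPO (algebraMap R R') (algebraMap R A) (f : R' →+* B) (g : A →+* B) := by
  let e : CommRingCat.of (R' ⊗[R] A) ≅ CommRingCat.of B :=
    (RingEquiv.ofBijective (Algebra.TensorProduct.productMap f g) h).toCommRingCatIso
  refine IsPushout.of_iso (CommRingCat.isPushout_tensorProduct R R' A) (Iso.refl _) (Iso.refl _) (Iso.refl _) e ?_ ?_ ?_ ?_
  · rw [Iso.refl_hom, Iso.refl_hom, Category.id_comp, Category.comp_id]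
  · rw [Iso.refl_hom, Iso.refl_hom, Category.id_comp, Category.comp_id]
  · rw [Iso.refl_hom, Category.id_comp]
    ext x
    exact Algebra.TensorProduct.productMap_left_apply f g x
  · rw [Iso.refl_hom, Category.id_comp]
    ext x
    exact Algebra.TensorProduct.productMap_right_apply f g x

variable {n : Type} [Fintype n] [DecidableEq n] {i₀ : n}

theorem Fr.map_comp_eq {B B' B'' : Type u} [CommRing B] [CommRing B'] [CommRing B''] {φ : n → B} {φ' : n → B'}
    {φ'' : n → B''} {f : B →+* B'} (h : ∀ i, f (φ i) = φ' i) {f' : B' →+* B''} (h' : ∀ i, f' (φ' i) = φ'' i)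
    {f'' : B →+* B''} (h'' : ∀ i, f'' (φ i) = φ'' i) (e : f'.comp f = f'') :
    (Fr.map (i₀ := i₀) f' h').comp (Fr.map (i₀ := i₀) f h) = Fr.map (i₀ := i₀) f'' h'' := by
  subst e
  exact Fr.map_map f h f' h'

/-- `Fr` preserves pushout squares -/
theorem Fr.isPO_map {R R' A B : Type u} [CommRing R] [CommRing R'] [CommRing A] [CommRing B] {ρ : R →+* R'}
    {α : R →+* A} {β : R' →+* B} {ψ : A →+* B} (h : IsPO ρ α β ψ) {φ : n → R} {φ₁ : n → R'} {φ₂ : n → A} {φ₃ : n → B}
    (h1 : ∀ i, ρ (φ i) = φ₁ i) (h2 : ∀ i, α (φ i) = φ₂ i) (h3 : ∀ i, β (φ₁ i) = φ₃ i) (h4 : ∀ i, ψ (φ₂ i) = φ₃ i) :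
    IsPO (Fr.map (i₀ := i₀) ρ h1) (Fr.map (i₀ := i₀) α h2) (Fr.map (i₀ := i₀) β h3) (Fr.map (i₀ := i₀) ψ h4) := by
  -- paste: `R → A → Fr_A` ...
  have s1 : IsPushout (CommRingCat.ofHom ρ) (CommRingCat.ofHom (algebraMap R (Fr i₀ φ)))
      (CommRingCat.ofHom (algebraMap R' (Fr i₀ φ₁))) (CommRingCat.ofHom (Fr.map (i₀ := i₀) ρ h1)) := Fr.isPO ρ h1
  have s2 : IsPushout (CommRingCat.ofHom ψ) (CommRingCat.ofHom (algebraMap A (Fr i₀ φ₂)))
      (CommRingCat.ofHom (algebraMap B (Fr i₀ φ₃))) (CommRingCat.ofHom (Fr.map (i₀ := i₀) ψ h4)) := Fr.isPO ψ h4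
  have s3 : IsPushout (CommRingCat.ofHom ρ) (CommRingCat.ofHom α) (CommRingCat.ofHom β) (CommRingCat.ofHom ψ) := h
  -- big square `R → R' ; R → Fr_A ; R' → Fr_B`
  have s4 := s3.paste_vert s2
  -- rewrite the vertical maps
  have e1 : CommRingCat.ofHom α ≫ CommRingCat.ofHom (algebraMap A (Fr i₀ φ₂)) =
      CommRingCat.ofHom (algebraMap R (Fr i₀ φ)) ≫ CommRingCat.ofHom (Fr.map (i₀ := i₀) α h2) := by
    ext x
    exact (Fr.map_algebraMap α h2 x).symm
  have e2 : CommRingCat.ofHom β ≫ CommRingCat.ofHom (algebraMap B (Fr i₀ φ₃)) =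
      CommRingCat.ofHom (algebraMap R' (Fr i₀ φ₁)) ≫ CommRingCat.ofHom (Fr.map (i₀ := i₀) β h3) := by
    ext x
    exact (Fr.map_algebraMap β h3 x).symm
  rw [e1, e2] at s4
  refine s4.of_top ?_ s1
  rw [← CommRingCat.ofHom_comp, ← CommRingCat.ofHom_comp, Fr.map_map, Fr.map_map]
  congr 1
  refine Fr.hom_ext ?_ ?_
  · rw [Fr.map_comp_algebraMap, Fr.map_comp_algebraMap, h.comm]
  · rw [Fr.map_mat, Fr.map_mat]

section C1

variable {B0 D0 E0 : Type u} [CommRing B0] [CommRing D0] [CommRing E0] [Algebra B0 D0] [Algebra B0 E0]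

/-- `Fr.map u` is bijective if `u` is bijective after inverting the `φ i` -/
theorem Fr.bijective_map {X Y : Type u} [CommRing X] [CommRing Y] [Algebra B0 X] [Algebra B0 Y] (u : X →ₐ[B0] Y)
    (φ : n → B0) (hu : ∀ i, LocBij (φ i) u.toLinearMap) :
    Function.Bijective (Fr.map (i₀ := i₀) (φ := fun i => algebraMap B0 X (φ i)) (φ' := fun i => algebraMap B0 Y (φ i))
      (u : X →+* Y) (fun i => u.commutes (φ i))) := by
  let C := Fr i₀ φ
  -- the comparison maps `C ⊗ X → Fr_X`
  have hC : Uni φ C := Fr.uni i₀ φ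
  letI : Algebra B0 (Fr i₀ (fun i => algebraMap B0 X (φ i))) := inferInstance
  letI : Algebra B0 (Fr i₀ (fun i => algebraMap B0 Y (φ i))) := inferInstance
  let cX : C →ₐ[B0] Fr i₀ (fun i => algebraMap B0 X (φ i)) :=
    { Fr.map (i₀ := i₀) (algebraMap B0 X) (fun i => rfl) with
      commutes' := fun b => (Fr.map_algebraMap (i₀ := i₀) (φ := φ) (algebraMap B0 X) (fun i => rfl) b).trans
        (IsScalarTower.algebraMap_apply B0 X (Fr i₀ (fun i => algebraMap B0 X (φ i))) b).symm }
  let cY : C →ₐ[B0] Fr i₀ (fun i => algebraMap B0 Y (φ i)) :=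
    { Fr.map (i₀ := i₀) (algebraMap B0 Y) (fun i => rfl) with
      commutes' := fun b => (Fr.map_algebraMap (i₀ := i₀) (φ := φ) (algebraMap B0 Y) (fun i => rfl) b).trans
        (IsScalarTower.algebraMap_apply B0 Y (Fr i₀ (fun i => algebraMap B0 Y (φ i))) b).symm }
  have hX : Function.Bijective (Algebra.TensorProduct.productMap cX
      (IsScalarTower.toAlgHom B0 X (Fr i₀ (fun i => algebraMap B0 X (φ i))))) :=
    bijective_productMap cX (IsScalarTower.toAlgHom B0 X (Fr i₀ (fun i => algebraMap B0 X (φ i))))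
      (Fr.isPO (i₀ := i₀) (φ := φ) (algebraMap B0 X) (fun i => rfl)).flip
  have hY : Function.Bijective (Algebra.TensorProduct.productMap cY
      (IsScalarTower.toAlgHom B0 Y (Fr i₀ (fun i => algebraMap B0 Y (φ i))))) :=
    bijective_productMap cY (IsScalarTower.toAlgHom B0 Y (Fr i₀ (fun i => algebraMap B0 Y (φ i))))
      (Fr.isPO (i₀ := i₀) (φ := φ) (algebraMap B0 Y) (fun i => rfl)).flip
  have hu' : Function.Bijective (Algebra.TensorProduct.map (AlgHom.id B0 C) u) :=
    hC.bijective_baseChange' u.toLinearMap C hu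
  have hcomm : (Fr.map (i₀ := i₀) (φ := fun i => algebraMap B0 X (φ i)) (φ' := fun i => algebraMap B0 Y (φ i))
      (u : X →+* Y) (fun i => u.commutes (φ i))).comp (Algebra.TensorProduct.productMap cX
      (IsScalarTower.toAlgHom B0 X (Fr i₀ (fun i => algebraMap B0 X (φ i)))) : C ⊗[B0] X →+* _) =
      (Algebra.TensorProduct.productMap cY
      (IsScalarTower.toAlgHom B0 Y (Fr i₀ (fun i => algebraMap B0 Y (φ i)))) : C ⊗[B0] Y →+* _).comp
      (Algebra.TensorProduct.map (AlgHom.id B0 C) u : C ⊗[B0] X →+* C ⊗[B0] Y) := by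
    refine Algebra.TensorProduct.ringHom_ext ?_ ?_
    · refine RingHom.ext fun c => ?_
      change Fr.map (i₀ := i₀) (φ := fun i => algebraMap B0 X (φ i)) (φ' := fun i => algebraMap B0 Y (φ i))
          (u : X →+* Y) (fun i => u.commutes (φ i)) (Algebra.TensorProduct.productMap cX _ (c ⊗ₜ[B0] 1)) =
        Algebra.TensorProduct.productMap cY _ (c ⊗ₜ[B0] (u 1))
      rw [Algebra.TensorProduct.productMap_apply_tmul, Algebra.TensorProduct.productMap_apply_tmul, map_one, mul_one,
        map_one, map_one, mul_one]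
      exact RingHom.congr_fun (Fr.map_map (i₀ := i₀) (φ := φ) (algebraMap B0 X) (fun i => rfl) (u : X →+* Y)
        (fun i => u.commutes (φ i))) c |>.trans (by
          congr 1
          refine Fr.hom_ext ?_ ?_
          · rw [Fr.map_comp_algebraMap]
            exact (congrArg _ (RingHom.ext fun b => u.commutes b)).trans
              (Fr.map_comp_algebraMap (i₀ := i₀) (φ := φ) (algebraMap B0 Y) (fun i => rfl)).symm
          · rw [Fr.map_mat]
            exact (Fr.map_mat (i₀ := i₀) (φ := φ) (algebraMap B0 Y) (fun i => rfl)).symm)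
    · refine RingHom.ext fun x => ?_
      change Fr.map (i₀ := i₀) (φ := fun i => algebraMap B0 X (φ i)) (φ' := fun i => algebraMap B0 Y (φ i))
          (u : X →+* Y) (fun i => u.commutes (φ i)) (Algebra.TensorProduct.productMap cX _ (1 ⊗ₜ[B0] x)) =
        Algebra.TensorProduct.productMap cY _ (1 ⊗ₜ[B0] (u x))
      rw [Algebra.TensorProduct.productMap_apply_tmul, Algebra.TensorProduct.productMap_apply_tmul, map_one, one_mul,
        map_one, one_mul]
      exact Fr.map_algebraMap (i₀ := i₀) _ _ x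
  have h4 : Function.Bijective (⇑(Fr.map (i₀ := i₀) (φ := fun i => algebraMap B0 X (φ i))
      (φ' := fun i => algebraMap B0 Y (φ i)) (u : X →+* Y) (fun i => u.commutes (φ i))) ∘
      ⇑(Algebra.TensorProduct.productMap cX
      (IsScalarTower.toAlgHom B0 X (Fr i₀ (fun i => algebraMap B0 X (φ i)))))) := by
    have := congrArg (fun f => (f : C ⊗[B0] X → Fr i₀ (fun i => algebraMap B0 Y (φ i)))) (congrArg DFunLike.coe hcomm)
    change (_ : C ⊗[B0] X → _) = _ at this
    have h5 : Function.Bijective (⇑(Algebra.TensorProduct.productMap cY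
      (IsScalarTower.toAlgHom B0 Y (Fr i₀ (fun i => algebraMap B0 Y (φ i))))) ∘
      ⇑(Algebra.TensorProduct.map (AlgHom.id B0 C) u)) := hY.comp hu'
    rw [show (⇑(Fr.map (i₀ := i₀) (φ := fun i => algebraMap B0 X (φ i))
      (φ' := fun i => algebraMap B0 Y (φ i)) (u : X →+* Y) (fun i => u.commutes (φ i))) ∘
      ⇑(Algebra.TensorProduct.productMap cX
      (IsScalarTower.toAlgHom B0 X (Fr i₀ (fun i => algebraMap B0 X (φ i)))))) =
      (⇑(Algebra.TensorProduct.productMap cY
      (IsScalarTower.toAlgHom B0 Y (Fr i₀ (fun i => algebraMap B0 Y (φ i))))) ∘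
      ⇑(Algebra.TensorProduct.map (AlgHom.id B0 C) u)) from this]
    exact h5
  exact (Function.Bijective.of_comp_iff _ hX).1 h4

/-- **(c1), Galois part** -/
theorem Fr.isPO_galois (a b : D0 →ₐ[B0] E0) (φ : n → B0)
    (h : ∀ i, LocBij (φ i) (Algebra.TensorProduct.productMap a b).toLinearMap) :
    IsPO (Fr.map (i₀ := i₀) (φ := φ) (φ' := fun i => algebraMap B0 D0 (φ i)) (algebraMap B0 D0) (fun _ => rfl))
      (Fr.map (i₀ := i₀) (φ := φ) (φ' := fun i => algebraMap B0 D0 (φ i)) (algebraMap B0 D0) (fun _ => rfl))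
      (Fr.map (i₀ := i₀) (φ := fun i => algebraMap B0 D0 (φ i)) (φ' := fun i => algebraMap B0 E0 (φ i))
        (a : D0 →+* E0) (fun i => a.commutes (φ i)))
      (Fr.map (i₀ := i₀) (φ := fun i => algebraMap B0 D0 (φ i)) (φ' := fun i => algebraMap B0 E0 (φ i))
        (b : D0 →+* E0) (fun i => b.commutes (φ i))) := by
  have s1 : IsPushout (CommRingCat.ofHom (algebraMap B0 D0)) (CommRingCat.ofHom (algebraMap B0 D0))
    (CommRingCat.ofHom (S := D0 ⊗[B0] D0) Algebra.TensorProduct.includeLeftRingHom)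
    (CommRingCat.ofHom (S := D0 ⊗[B0] D0) Algebra.TensorProduct.includeRight.toRingHom) :=
    CommRingCat.isPushout_tensorProduct B0 D0 D0
  have s2 := Fr.isPO_map (i₀ := i₀) (ρ := algebraMap B0 D0) (α := algebraMap B0 D0)
    (β := (Algebra.TensorProduct.includeLeftRingHom : D0 →+* D0 ⊗[B0] D0))
    (ψ := (Algebra.TensorProduct.includeRight.toRingHom : D0 →+* D0 ⊗[B0] D0)) s1 (φ := φ)
    (φ₁ := fun i => algebraMap B0 D0 (φ i)) (φ₂ := fun i => algebraMap B0 D0 (φ i))
    (φ₃ := fun i => algebraMap B0 (D0 ⊗[B0] D0) (φ i)) (fun _ => rfl) (fun _ => rfl) (fun _ => rfl)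
    (fun i => (Algebra.TensorProduct.includeRight : D0 →ₐ[B0] D0 ⊗[B0] D0).commutes (φ i))
  have hb := Fr.bijective_map (i₀ := i₀) (Algebra.TensorProduct.productMap a b) φ h
  let e := (RingEquiv.ofBijective _ hb).toCommRingCatIso
  refine IsPushout.of_iso s2 (Iso.refl _) (Iso.refl _) (Iso.refl _) e ?_ ?_ ?_ ?_
  · rw [Iso.refl_hom, Iso.refl_hom, Category.id_comp, Category.comp_id]
  · rw [Iso.refl_hom, Iso.refl_hom, Category.id_comp, Category.comp_id]
  · rw [Iso.refl_hom, Category.id_comp]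
    exact CommRingCat.hom_ext (Fr.map_comp_eq (i₀ := i₀) (φ := fun i => algebraMap B0 D0 (φ i))
      (φ' := fun i => algebraMap B0 (D0 ⊗[B0] D0) (φ i)) (φ'' := fun i => algebraMap B0 E0 (φ i)) (fun _ => rfl)
      (fun i => (Algebra.TensorProduct.productMap a b).commutes (φ i)) (fun i => a.commutes (φ i))
      (RingHom.ext fun x => Algebra.TensorProduct.productMap_left_apply a b x))
  · rw [Iso.refl_hom, Category.id_comp]
    exact CommRingCat.hom_ext (Fr.map_comp_eq (i₀ := i₀) (φ := fun i => algebraMap B0 D0 (φ i))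
      (φ' := fun i => algebraMap B0 (D0 ⊗[B0] D0) (φ i)) (φ'' := fun i => algebraMap B0 E0 (φ i))
      (fun i => (Algebra.TensorProduct.includeRight : D0 →ₐ[B0] D0 ⊗[B0] D0).commutes (φ i))
      (fun i => (Algebra.TensorProduct.productMap a b).commutes (φ i)) (fun i => b.commutes (φ i))
      (RingHom.ext fun x => Algebra.TensorProduct.productMap_right_apply a b x))

/-- **(c1), faithfully flat part** -/
theorem Fr.faithfullyFlat_map (φ : n → B0)
    (h : ∀ i, Module.FaithfullyFlat (Localization.Away (φ i)) (Localization.Away (φ i) ⊗[B0] D0)) :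
    (Fr.map (i₀ := i₀) (φ := φ) (φ' := fun i => algebraMap B0 D0 (φ i)) (algebraMap B0 D0) (fun _ => rfl)).FaithfullyFlat := by
  let C := Fr i₀ φ
  have hC : Uni φ C := Fr.uni i₀ φ
  haveI := hC.faithfullyFlat C h
  have s1 : IsPO (algebraMap B0 C) (algebraMap B0 D0) (algebraMap C (C ⊗[B0] D0))
      (Algebra.TensorProduct.includeRight.toRingHom : D0 →+* C ⊗[B0] D0) := CommRingCat.isPushout_tensorProduct B0 C D0
  have s2 := (Fr.isPO (i₀ := i₀) (φ := φ) (φ' := fun i => algebraMap B0 D0 (φ i)) (algebraMap B0 D0) (fun _ => rfl)).flip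
  let e := IsPushout.isoIsPushout _ _ s1 s2
  have h1 : CommRingCat.ofHom (algebraMap C (C ⊗[B0] D0)) ≫ e.hom = CommRingCat.ofHom (Fr.map (i₀ := i₀) (φ := φ)
      (φ' := fun i => algebraMap B0 D0 (φ i)) (algebraMap B0 D0) (fun _ => rfl)) := IsPushout.inl_isoIsPushout_hom _ _ s1 s2
  have h2 : Fr.map (i₀ := i₀) (φ := φ) (φ' := fun i => algebraMap B0 D0 (φ i)) (algebraMap B0 D0) (fun _ => rfl) =
      e.hom.hom.comp (algebraMap C (C ⊗[B0] D0)) := (congrArg CommRingCat.Hom.hom h1).symm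
  rw [h2]
  exact RingHom.FaithfullyFlat.stableUnderComposition _ _
    (RingHom.faithfullyFlat_algebraMap_iff.2 (by infer_instance))
    (RingHom.FaithfullyFlat.of_bijective e.commRingCatIsoToRingEquiv.bijective)

end C1

end Groth.Agent.ResProp.EF.K58
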