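import Groth.Agent.ResProp.EF.K58.Coact
import Groth.Agent.ResProp.EF.K601.FinD
import Groth.Agent.ResProp.EF.K374.StabProd
import Groth.Agent.ResProp.EF.K671.Iface

/-!
# The coaction of `H = Stab(e₀) × G'` on `D = Fr 0 φ`

Input: a coaction of `G'` on `D₀` and `φ` with `ρ (φ j) = ∑ φ i ⊗ R i j`.  Output: `FrData` (58) and `FrData` (601) for `HH k t G'`.
-/

set_option autoImplicit false
set_option linter.style.haveILetI false
set_option linter.unusedSectionVars false

open TensorProduct Matrix Groth.Agent.ResProp.EF.K83 Groth.Agent.ResProp.EF.K374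

namespace Groth.Agent.ResProp.EF.K58

universe u

section General

variable {k : Type u} [CommRing k] {O O' : Type u} [CommRing O] [HopfAlgebra k O] [CommRing O'] [HopfAlgebra k O']
  {n : Type} [Fintype n] [DecidableEq n]

theorem IsMatCo.map {R : Matrix n n O} (h : IsMatCo k R) (ι : O →ₐc[k] O') : IsMatCo k (R.map ι) where
  comul i j := by
    rw [Matrix.map_apply, ← CoalgHomClass.map_comp_comul_apply ι (R i j), h.comul, map_sum]
    rfl
  counit i j := by
    rw [Matrix.map_apply, CoalgHomClass.counit_comp_apply ι (R i j), h.counit]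

end General

section HH

variable {k : Type u} [CommRing k] {t : ℕ} {G' : Grp.Gp k} {D0 : Type u} [CommRing D0] [Algebra k D0]
  (c0 : CoAlg k G'.O D0) (φ : Fin (t + 1) → D0) (R : Matrix (Fin (t + 1)) (Fin (t + 1)) G'.O)

/-- `x ↦ 1 ⊗ x` -/
noncomputable abbrev iG (k : Type u) [CommRing k] (t : ℕ) (G' : Grp.Gp k) : G'.O →ₐc[k] (HH k t G').O :=
  (inrB : G'.O →ₐc[k] (St k t).O ⊗[k] G'.O)

/-- `x ↦ x ⊗ 1` -/
noncomputable abbrev iS (k : Type u) [CommRing k] (t : ℕ) (G' : Grp.Gp k) : (St k t).O →ₐc[k] (HH k t G').O :=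
  (inlB : (St k t).O →ₐc[k] (St k t).O ⊗[k] G'.O)

variable {c0 φ R}

theorem frd (hR : IsMatCo k R) (hφ : ∀ j, c0.ρ (φ j) = ∑ i, φ i ⊗ₜ[k] R i j) :
    FrData (K671.push c0 (iG k t G')) φ (R.map (iG k t G')) ((mS k t).map (iS k t G')) (0 : Fin (t + 1)) where
  R_co := hR.map _
  h_co := IsMatCo.map ⟨fun i j => comul_mS k t i j, fun i j => counit_mS k t i j⟩ _
  col i := by
    rw [Matrix.map_apply, mS_col]
    split_ifs
    · exact map_one _
    · exact map_zero _
  rho j := by
    change Algebra.TensorProduct.map (AlgHom.id k D0) ((iG k t G' : G'.O →ₐc[k] (HH k t G').O) : G'.O →ₐ[k] (HH k t G').O)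
      (c0.ρ (φ j)) = _
    rw [hφ, map_sum]
    rfl

/-- **the coaction of `Stab × G'` on the frame algebra** -/
noncomputable def cD (hR : IsMatCo k R) (hφ : ∀ j, c0.ρ (φ j) = ∑ i, φ i ⊗ₜ[k] R i j) :
    CoAlg k (HH k t G').O (Fr (0 : Fin (t + 1)) φ) := (frd hR hφ).coAlg

theorem cD_algebraMap (hR : IsMatCo k R) (hφ : ∀ j, c0.ρ (φ j) = ∑ i, φ i ⊗ₜ[k] R i j) (x : D0) :
    (cD hR hφ).ρ (algebraMap D0 (Fr (0 : Fin (t + 1)) φ) x) =
      Algebra.TensorProduct.map (IsScalarTower.toAlgHom k D0 (Fr (0 : Fin (t + 1)) φ))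
        ((iG k t G' : G'.O →ₐc[k] (HH k t G').O) : G'.O →ₐ[k] (HH k t G').O) (c0.ρ x) := by
  refine ((frd hR hφ).ρ_algebraMap x).trans ?_
  change Algebra.TensorProduct.map (IsScalarTower.toAlgHom k D0 (Fr (0 : Fin (t + 1)) φ)) (AlgHom.id k (HH k t G').O)
    (Algebra.TensorProduct.map (AlgHom.id k D0) ((iG k t G' : G'.O →ₐc[k] (HH k t G').O) : G'.O →ₐ[k] (HH k t G').O)
      (c0.ρ x)) = _
  induction c0.ρ x using TensorProduct.induction_on with
  | zero => simp only [map_zero]
  | tmul a b => rfl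
  | add a b ha hb => simp only [map_add, ha, hb]

theorem cD_mat (hR : IsMatCo k R) (hφ : ∀ j, c0.ρ (φ j) = ∑ i, φ i ⊗ₜ[k] R i j) (i j : Fin (t + 1)) :
    (cD hR hφ).ρ (mat (0 : Fin (t + 1)) φ i j) = ∑ p, ∑ q, mat (0 : Fin (t + 1)) φ p q ⊗ₜ[k]
      ((((iG k t G' : G'.O →ₐc[k] (HH k t G').O) : G'.O →ₐ[k] (HH k t G').O) (R p i)) *
        ((mS k t).map (iS k t G')) q j) := by
  have h1 := congrFun (congrFun (frd hR hφ).ρ_mat i) j
  refine h1.trans ?_
  rw [FrData.G, Matrix.mul_apply]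
  have h2 : ∀ q, ((((R.map (iG k t G')).map
      (Algebra.TensorProduct.includeRight : (HH k t G').O →ₐ[k] Fr (0 : Fin (t + 1)) φ ⊗[k] (HH k t G').O))ᵀ *
      (mat (0 : Fin (t + 1)) φ).map (Algebra.TensorProduct.includeLeft :
        Fr (0 : Fin (t + 1)) φ →ₐ[k] Fr (0 : Fin (t + 1)) φ ⊗[k] (HH k t G').O)) i q) *
      (((mS k t).map (iS k t G')).map (Algebra.TensorProduct.includeRight : (HH k t G').O →ₐ[k] Fr (0 : Fin (t + 1)) φ ⊗[k] (HH k t G').O)) q j =
      ∑ p, mat (0 : Fin (t + 1)) φ p q ⊗ₜ[k] ((((iG k t G' : G'.O →ₐc[k] (HH k t G').O) : G'.O →ₐ[k] (HH k t G').O) (R p i)) *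
        ((mS k t).map (iS k t G')) q j) := by
    intro q
    rw [Matrix.mul_apply, Finset.sum_mul]
    refine Finset.sum_congr rfl fun p _ => ?_
    rw [Matrix.transpose_apply, Matrix.map_apply, Matrix.map_apply, Matrix.map_apply, Matrix.map_apply,
      Algebra.TensorProduct.includeRight_apply, Algebra.TensorProduct.includeLeft_apply,
      Algebra.TensorProduct.includeRight_apply, Algebra.TensorProduct.tmul_mul_tmul,
      Algebra.TensorProduct.tmul_mul_tmul]
    simp only [one_mul, mul_one]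
    rfl
  refine (Finset.sum_congr rfl fun q _ => h2 q).trans ?_
  exact Finset.sum_comm

/-- `O(Stab × G')` is the frame algebra of `e₀` over `O(G')` -/
theorem isFrame_HH (t : ℕ) (G' : Grp.Gp k) : K601.IsFrame (0 : Fin (t + 1))
    (((iG k t G' : G'.O →ₐc[k] (HH k t G').O) : G'.O →ₐ[k] (HH k t G').O) : G'.O →+* (HH k t G').O)
    (Pi.single 0 1) ((mS k t).map (iS k t G')) where
  unit := isUnit_det_map _ (mS_det k t)
  col i := by
    rw [Matrix.map_apply, mS_col]
    by_cases h : i = 0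
    · subst h
      rw [if_pos rfl, Pi.single_eq_same, map_one, map_one]
    · rw [if_neg h, Pi.single_eq_of_ne h, map_zero, map_zero]
  lift {T} _ y x hx hc := by
    letI : Algebra k T := (y.comp (algebraMap k G'.O)).toAlgebra
    let y' : G'.O →ₐ[k] T := { y with commutes' := fun r => rfl }
    obtain ⟨f, hf, -⟩ := (univS k t).lift T x ⟨fun i => by
      rw [hc i]
      by_cases h : i = 0
      · subst h; rw [if_pos rfl, Pi.single_eq_same, map_one]
      · rw [if_neg h, Pi.single_eq_of_ne h, map_zero], hx⟩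
    refine ⟨(Algebra.TensorProduct.productMap f y' : (St k t).O ⊗[k] G'.O →+* T), ?_, ?_⟩
    · ext z
      exact Algebra.TensorProduct.productMap_right_apply f y' z
    · rw [← hf]
      ext i j
      exact Algebra.TensorProduct.productMap_left_apply f y' (mS k t i j)
  ext {T} _ f f' h1 h2 := by
    letI : Algebra k T := (f.comp (algebraMap k (HH k t G').O)).toAlgebra
    let g : (HH k t G').O →ₐ[k] T := { f with commutes' := fun r => rfl }
    have e : ∀ r, f' (algebraMap k (HH k t G').O r) = f (algebraMap k (HH k t G').O r) := fun r => by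
      have h3 : algebraMap k (HH k t G').O r = iG k t G' (algebraMap k G'.O r) := ((iG k t G' : G'.O →ₐc[k] (HH k t G').O) : G'.O →ₐ[k] (HH k t G').O).commutes r |>.symm
      rw [h3]
      exact (RingHom.congr_fun h1 _).symm
    let g' : (HH k t G').O →ₐ[k] T := { f' with commutes' := e }
    have key : g = g' := by
      refine Algebra.TensorProduct.ext ?_ ?_
      · refine (univS k t).ext ?_
        ext i j
        exact congrFun (congrFun h2 i) j
      · refine AlgHom.ext fun z => ?_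
        exact RingHom.congr_fun h1 z
    exact congrArg (fun q : (HH k t G').O →ₐ[k] T => (q : (HH k t G').O →+* T)) key

/-- **601's `FrData`** -/
theorem frd601 (hR : IsMatCo k R) (hφ : ∀ j, c0.ρ (φ j) = ∑ i, φ i ⊗ₜ[k] R i j) :
    K601.FrData (i0 := (0 : Fin (t + 1))) c0 φ R
      ((iG k t G' : G'.O →ₐc[k] (HH k t G').O) : G'.O →ₐ[k] (HH k t G').O) ((mS k t).map (iS k t G'))
      (mat (0 : Fin (t + 1)) φ) (cD hR hφ) where
  hRu := hR.isUnit_det
  hφ := hφ
  hO := isFrame_HH t G'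
  hD := K601.isFrame_Fr 0 φ
  hc1 := cD_algebraMap hR hφ
  hc2 := cD_mat hR hφ

end HH

end Groth.Agent.ResProp.EF.K58
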