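import Groth.Agent.ResProp.EF.K567.SymW
import Groth.Agent.ResProp.EF.K884.LevTrip
import Groth.Agent.ResProp.EF.K280.VData
import Groth.Agent.ResProp.EF.K86.KmapLv

/-!
# `ProdIn` from generators of the graded pieces in degrees `1`, `2`

* `isoLv` : the isomorphisms of data at the levels; `univA` the universal one;
* `GrGen` : generators `u` of `gr n` over `D` with their matrix `M` and the congruence at the universal arrow;
* `prodIn` : `GrGen 1`, `GrGen 2` ⇒ `K280.ProdIn c`;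
* `stmtProd_of` : `StmtGrGen ⇒ StmtProd`.
-/

set_option autoImplicit false
set_option linter.unusedSectionVars false
set_option linter.dupNamespace false
set_option linter.style.haveILetI false

universe u

open CategoryTheory Opposite TensorProduct MvPolynomial

noncomputable section

namespace Groth.Agent.ResProp.EF.K58.ProdTop

open K784.BC K784.PM K741.RP EF56 Groth.Agent.ResProp.EF.Grp Groth.Agent.ResProp.EF.Arch
open Groth.Agent.ResProp.EF.K980 Groth.Agent.ResProp.EF.K863 Groth.Agent.ResProp.EF.K964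
open Groth.Agent.ResProp.EF.K208 Groth.Agent.ResProp.EF.K567
open Groth.Agent.ResProp.EF.K86 (omPM omk omC omk_tower kmap_formula_lv)
open Groth.Agent.ResProp.EF.K884.MatPt (IsMC matPt)
open Groth.Agent.ResProp.EF.K884.EtaD (etaD upt vtxD_etaD_bc etaMatch_of)
open Groth.Agent.ResProp.EF.K884.LevTrip (tripGpd trLev)
open Groth.Agent.ResProp.EF.K884.LevGen (levOf app_arOf arOf)
open Groth.Agent.ResProp.EF.K341 (rhoI)

section Iso

variable {k : Type u} [CommRing k] {A : NFᵒᵖ ⥤ CommRingCat.{u}} [GRF k A] {x : PrimeSpectrum (A.obj (op ⟨0⟩))}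
  (c : CoverDatum k A x) {ι : Type} [Fintype ι] [DecidableEq ι]

/-- invariant differentials with the matrix `C` of their coaction -/
structure VD (w : ι → Ω[(c.Y.D.obj (op ⟨0⟩))⁄(A.obj (op ⟨0⟩))]) (C : Matrix ι ι c.H.O) : Prop where
  mc : IsMC C
  inv : ∀ l, (omPM c.Y.j).map (pr ⟨0⟩) (show (omPM c.Y.j).obj ⟨0⟩ from w l) =
    (omPM c.Y.j).map (lst ⟨0⟩) (show (omPM c.Y.j).obj ⟨0⟩ from w l)
  co : letI := omk c ⟨0⟩; ∀ l, (omC c ⟨0⟩).coact (show (omPM c.Y.j).obj ⟨0⟩ from w l) =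
    ∑ m, (show (omPM c.Y.j).obj ⟨0⟩ from w m) ⊗ₜ[k] C m l

variable {c} {w : ι → Ω[(c.Y.D.obj (op ⟨0⟩))⁄(A.obj (op ⟨0⟩))]} {C : Matrix ι ι c.H.O}

/-- the isomorphisms of data at the levels -/
def isoLv (v : VD c w C) (B : Type u) [CommRing B] [Algebra k B] (n : ℕ) (i j : Fin (n + 1)) (h : (pts c.H).pt B) :
    IsoDat (rhoI w) (xp k A B n i) (xp k A B n j) :=
  isoDatOfMat (etaD c B n i j h) (matPt A B v.mc n h) fun l =>
    kmap_formula_lv c B n w C v.inv v.co i j h.ofConv ((etaD c B n i j h).toAlgHom : _ →+* _)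
      (fun d => vtxD_etaD_bc c n i j h d) (Om (etaD c B n i j h).toAlgHom)
      (fun a b => by rw [Om_smul, Om_D]; rfl) l

/-- the universal isomorphism of data -/
def univA (v : VD c w C) : IsoDat (rhoI w) (xp k A c.H.O 1 0) (xp k A c.H.O 1 1) := isoLv v c.H.O 1 0 1 (upt c.H)

/-- generators of the graded piece of degree `n` with their matrix -/
structure GrGen (v : VD c w C) (m : Model (A.obj (op ⟨0⟩)) (c.Y.D.obj (op ⟨0⟩)) (ι → c.Y.D.obj (op ⟨0⟩)) (rhoI w))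
    (n : ℕ) where
  r : ℕ
  u : Fin r → m.Fil n
  M : Matrix (Fin r) (Fin r) c.H.O
  mc : IsMC M
  span : Submodule.span (c.Y.D.obj (op ⟨0⟩)) (Set.range fun l => m.toGr n (u l)) = ⊤
  cond : ∀ φ : (mBC (xp k A c.H.O 1 0) m).PP →ₐ[c.H.O ⊗[k] A.obj (op ⟨1⟩)] (mBC (xp k A c.H.O 1 1) m).PP,
    IsModelHom (m := mBC (xp k A c.H.O 1 0) m) (m' := mBC (xp k A c.H.O 1 1) m) (dHom (univA v)) φ → ∀ i,
      φ (ppMap (xp k A c.H.O 1 0) m (u i)) -
        ∑ j, (M j i ⊗ₜ[k] (1 : A.obj (op ⟨1⟩)) : c.H.O ⊗[k] A.obj (op ⟨1⟩)) • ppMap (xp k A c.H.O 1 1) m (u j) ∈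
        (mBC (xp k A c.H.O 1 1) m).Fil (n + 1)

end Iso

/-! ### combining the two degrees -/

section Comb

theorem isMC_block {k : Type u} [CommRing k] {H : Gp k} {a b : Type} [Fintype a] [DecidableEq a] [Fintype b]
    [DecidableEq b] {M : Matrix a a H.O} {N : Matrix b b H.O} (hM : IsMC M) (hN : IsMC N) :
    IsMC (Matrix.fromBlocks M 0 0 N) where
  comul i j := by
    rw [Fintype.sum_sum_type]
    rcases i with i | i <;> rcases j with j | j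
    · simp only [Matrix.fromBlocks_apply₁₁, Matrix.fromBlocks_apply₁₂, Matrix.fromBlocks_apply₂₁, Matrix.zero_apply,
        TensorProduct.zero_tmul, Finset.sum_const_zero, add_zero]
      exact hM.comul i j
    · simp
    · simp
    · simp only [Matrix.fromBlocks_apply₂₂, Matrix.fromBlocks_apply₁₂, Matrix.fromBlocks_apply₂₁, Matrix.zero_apply,
        TensorProduct.zero_tmul, Finset.sum_const_zero, zero_add]
      exact hN.comul i j
  counit i j := by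
    rcases i with i | i <;> rcases j with j | j
    · simp only [Matrix.fromBlocks_apply₁₁, hM.counit, Sum.inl.injEq]
    · simp
    · simp
    · simp only [Matrix.fromBlocks_apply₂₂, hN.counit, Sum.inr.injEq]

theorem isMC_reindex {k : Type u} [CommRing k] {H : Gp k} {a b : Type} [Fintype a] [DecidableEq a] [Fintype b]
    [DecidableEq b] (e : b ≃ a) {M : Matrix a a H.O} (hM : IsMC M) : IsMC (M.submatrix e e) where
  comul i j := by
    rw [Matrix.submatrix_apply, hM.comul]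
    exact (Equiv.sum_comp e (fun l => M (e i) l ⊗ₜ[k] M l (e j))).symm
  counit i j := by
    rw [Matrix.submatrix_apply, hM.counit]
    simp only [EmbeddingLike.apply_eq_iff_eq]

variable {R : Type u} [CommRing R] {D : Type u} [CommRing D] [Algebra R D] {V : Type u} [AddCommGroup V]
  [Module D V] {ρ : V →ₗ[D] Ω[D⁄R]} {m : Model R D V ρ}

/-- generators of `gr n` lift to `PP` -/
theorem exists_coef {n r : ℕ} (u : Fin r → m.Fil n) (h : Submodule.span D (Set.range fun l => m.toGr n (u l)) = ⊤)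
    {z : m.PP} (hz : z ∈ m.Fil n) : ∃ b : Fin r → m.PP, z - ∑ l, (u l : m.PP) * b l ∈ m.Fil (n + 1) := by
  have h1 : m.toGr n ⟨z, hz⟩ ∈ Submodule.span D (Set.range fun l => m.toGr n (u l)) := by rw [h]; trivial
  obtain ⟨d, hd⟩ := (Submodule.mem_span_range_iff_exists_fun D).1 h1
  choose b hb using fun l => m.surj (d l)
  refine ⟨b, ?_⟩
  have h2 : m.toGr n ⟨z, hz⟩ = m.toGr n (∑ l, b l • u l) := by
    rw [← hd, map_sum]
    exact Finset.sum_congr rfl fun l _ => by rw [← hb, Model.f_smul_toGr, map_smul]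
  have h3 := (Model.toGr_eq_iff _ _).1 h2
  have h4 : ((∑ l, b l • u l : m.Fil n) : m.PP) = ∑ l, (u l : m.PP) * b l := by
    rw [AddSubmonoidClass.coe_finsetSum]
    exact Finset.sum_congr rfl fun l _ => mul_comm _ _
  rw [← h4]
  exact h3

variable {r₁ r₂ : ℕ} (u₁ : Fin r₁ → m.Fil 1) (u₂ : Fin r₂ → m.Fil 2)

/-- the index equivalence -/
abbrev sg (r₁ r₂ : ℕ) : Fin (r₁ + r₂) ≃ Fin r₁ ⊕ Fin r₂ := finSumFinEquiv.symm

/-- the weights -/
def wt (r₁ r₂ : ℕ) (i : Fin (r₁ + r₂)) : ℕ := Sum.elim (fun _ => 1) (fun _ => 2) (sg r₁ r₂ i)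

/-- the elements -/
def uu (i : Fin (r₁ + r₂)) : m.PP := Sum.elim (fun a => (u₁ a : m.PP)) (fun b => (u₂ b : m.PP)) (sg r₁ r₂ i)

theorem wt1 (i : Fin (r₁ + r₂)) : 1 ≤ wt r₁ r₂ i := by
  unfold wt
  rcases sg r₁ r₂ i with a | b
  · exact le_refl 1
  · exact one_le_two

theorem wt2 (i : Fin (r₁ + r₂)) : wt r₁ r₂ i ≤ 2 := by
  unfold wt
  rcases sg r₁ r₂ i with a | b
  · exact one_le_two
  · exact le_refl 2

theorem hu (i : Fin (r₁ + r₂)) : uu u₁ u₂ i ∈ m.Fil (wt r₁ r₂ i) := by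
  unfold wt uu
  rcases sg r₁ r₂ i with a | b
  · exact (u₁ a).2
  · exact (u₂ b).2

theorem hg (h₁ : Submodule.span D (Set.range fun l => m.toGr 1 (u₁ l)) = ⊤)
    (h₂ : Submodule.span D (Set.range fun l => m.toGr 2 (u₂ l)) = ⊤) (n : ℕ) (hn : n = 1 ∨ n = 2) (z : m.PP)
    (hz : z ∈ m.Fil n) : ∃ b : Fin (r₁ + r₂) → m.PP, (∀ j, b j ∈ m.Fil (n - wt r₁ r₂ j)) ∧
      z - ∑ j, uu u₁ u₂ j * b j ∈ m.Fil (n + 1) := by
  rcases hn with rfl | rfl
  · obtain ⟨b, hb⟩ := exists_coef u₁ h₁ hz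
    refine ⟨fun j => Sum.elim b (fun _ => 0) (sg r₁ r₂ j), fun j => ?_, ?_⟩
    · change Sum.elim b (fun _ => 0) (sg r₁ r₂ j) ∈ m.Fil (1 - Sum.elim (fun _ => 1) (fun _ => 2) (sg r₁ r₂ j))
      rcases sg r₁ r₂ j with a | b'
      · change b a ∈ m.Fil (1 - 1)
        rw [Nat.sub_self, Model.Fil_zero]
        trivial
      · exact Ideal.zero_mem _
    · have e : ∑ j, uu u₁ u₂ j * Sum.elim b (fun _ => 0) (sg r₁ r₂ j) = ∑ l, (u₁ l : m.PP) * b l := by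
        refine (Equiv.sum_comp (sg r₁ r₂) (fun s => Sum.elim (fun a => (u₁ a : m.PP)) (fun b => (u₂ b : m.PP)) s *
          Sum.elim b (fun _ => (0 : m.PP)) s)).trans ?_
        rw [Fintype.sum_sum_type]
        simp
      rw [e]
      exact hb
  · obtain ⟨b, hb⟩ := exists_coef u₂ h₂ hz
    refine ⟨fun j => Sum.elim (fun _ => 0) b (sg r₁ r₂ j), fun j => ?_, ?_⟩
    · change Sum.elim (fun _ => 0) b (sg r₁ r₂ j) ∈ m.Fil (2 - Sum.elim (fun _ => 1) (fun _ => 2) (sg r₁ r₂ j))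
      rcases sg r₁ r₂ j with a | b'
      · exact Ideal.zero_mem _
      · change b b' ∈ m.Fil (2 - 2)
        rw [Nat.sub_self, Model.Fil_zero]
        trivial
    · have e : ∑ j, uu u₁ u₂ j * Sum.elim (fun _ => 0) b (sg r₁ r₂ j) = ∑ l, (u₂ l : m.PP) * b l := by
        refine (Equiv.sum_comp (sg r₁ r₂) (fun s => Sum.elim (fun a => (u₁ a : m.PP)) (fun b => (u₂ b : m.PP)) s *
          Sum.elim (fun _ => (0 : m.PP)) b s)).trans ?_
        rw [Fintype.sum_sum_type]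
        simp
      rw [e]
      exact hb

end Comb

/-! ### the forgetful functor to the triples -/

section Forget

variable {R : Type u} [CommRing R] {D : Type u} [CommRing D] [Algebra R D] {V : Type u} [AddCommGroup V]
  [Module D V] [Module R V] [IsScalarTower R D V] {ρ : V →ₗ[D] Ω[D⁄R]} {m : Model R D V ρ}
  {e : ℕ} {w : Fin e → ℕ} {u : Fin e → m.PP}

/-- `wGpd → tripGpd` -/
def forg (hu : ∀ i, u i ∈ m.Fil (w i)) : PGpd.Fun (wGpd w hu) (tripGpd D V (Fin e)) where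
  app p := ((WHom.a p).eta, (WHom.a p).etaV, WHom.M p)
  app_id _ := rfl
  app_comp _ _ := rfl
  app_pull _ _ _ _ _ _ _ _ := rfl

theorem forg_ext (hu : ∀ i, u i ∈ m.Fil (w i)) {R' : Type u} [CommRing R'] {x y : R →+* R'}
    (p q : (wGpd w hu).Hom x y) (h : (forg hu).app p = (forg hu).app q) : p = q :=
  wGpd_ext hu (IsoDat.ext (congrArg Prod.fst h) (congrArg (fun t => t.2.1) h))
    (congrArg (fun t => (t.2.2 : (Matrix (Fin e) (Fin e) R')ˣ).val) h)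

end Forget

section Main

variable {k : Type u} [CommRing k] {A : NFᵒᵖ ⥤ CommRingCat.{u}} [GRF k A] {x : PrimeSpectrum (A.obj (op ⟨0⟩))}
  {c : CoverDatum k A x} {ι : Type} [Fintype ι] [DecidableEq ι]
  {w : ι → Ω[(c.Y.D.obj (op ⟨0⟩))⁄(A.obj (op ⟨0⟩))]} {C : Matrix ι ι c.H.O} {v : VD c w C}
  {m : Model (A.obj (op ⟨0⟩)) (c.Y.D.obj (op ⟨0⟩)) (ι → c.Y.D.obj (op ⟨0⟩)) (rhoI w)}
  (g₁ : GrGen v m 1) (g₂ : GrGen v m 2)

/-- the block matrix -/
def bm : Matrix (Fin (g₁.r + g₂.r)) (Fin (g₁.r + g₂.r)) c.H.O :=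
  (Matrix.fromBlocks g₁.M 0 0 g₂.M).submatrix (sg g₁.r g₂.r) (sg g₁.r g₂.r)

theorem isMC_bm : IsMC (bm g₁ g₂) := isMC_reindex (sg g₁.r g₂.r) (isMC_block g₁.mc g₂.mc)

theorem bm_ne (i j : Fin (g₁.r + g₂.r)) (h : wt g₁.r g₂.r i ≠ wt g₁.r g₂.r j) : bm g₁ g₂ i j = 0 := by
  unfold wt at h
  change Matrix.fromBlocks g₁.M 0 0 g₂.M (sg g₁.r g₂.r i) (sg g₁.r g₂.r j) = 0
  revert h
  rcases sg g₁.r g₂.r i with a | b <;> rcases sg g₁.r g₂.r j with a' | b'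
  · intro h; exact absurd rfl h
  · intro; rfl
  · intro; rfl
  · intro h; exact absurd rfl h

theorem wpres (B : Type u) [CommRing B] [Algebra k B] (n : ℕ) (h : (pts c.H).pt B) :
    WPres (wt g₁.r g₂.r) ((matPt A B (isMC_bm g₁ g₂) n h : (Matrix _ _ (B ⊗[k] A.obj (op ⟨n⟩)))ˣ) :
      Matrix _ _ (B ⊗[k] A.obj (op ⟨n⟩))) := by
  intro i j hij
  change h.ofConv (bm g₁ g₂ i j) ⊗ₜ[k] (1 : A.obj (op ⟨n⟩)) = 0
  rw [bm_ne g₁ g₂ i j hij, map_zero, TensorProduct.zero_tmul]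

theorem wpres' (B : Type u) [CommRing B] [Algebra k B] (n : ℕ) (h : (pts c.H).pt B) :
    WPres (wt g₁.r g₂.r) (((matPt A B (isMC_bm g₁ g₂) n h)⁻¹ : (Matrix _ _ (B ⊗[k] A.obj (op ⟨n⟩)))ˣ) :
      Matrix _ _ (B ⊗[k] A.obj (op ⟨n⟩))) := by
  intro i j hij
  change (h⁻¹ : (pts c.H).pt B).ofConv (bm g₁ g₂ i j) ⊗ₜ[k] (1 : A.obj (op ⟨n⟩)) = 0
  rw [bm_ne g₁ g₂ i j hij, map_zero, TensorProduct.zero_tmul]

/-- the congruences at the universal arrow -/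
theorem wcond : WCond m (wt g₁.r g₂.r) (uu g₁.u g₂.u) (univA v)
    ((matPt A c.H.O (isMC_bm g₁ g₂) 1 (upt c.H) : (Matrix _ _ (c.H.O ⊗[k] A.obj (op ⟨1⟩)))ˣ) :
      Matrix _ _ (c.H.O ⊗[k] A.obj (op ⟨1⟩))) := by
  intro φ hφ i
  have e : ∀ s : Fin g₁.r ⊕ Fin g₂.r,
      ∑ j, (matPt A c.H.O (isMC_bm g₁ g₂) 1 (upt c.H)).1 j ((sg g₁.r g₂.r).symm s) •
        ppMap (xp k A c.H.O 1 1) m (uu g₁.u g₂.u j) =
      ∑ t : Fin g₁.r ⊕ Fin g₂.r, (Matrix.fromBlocks g₁.M 0 0 g₂.M t s ⊗ₜ[k] (1 : A.obj (op ⟨1⟩)) :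
        c.H.O ⊗[k] A.obj (op ⟨1⟩)) • ppMap (xp k A c.H.O 1 1) m
          (Sum.elim (fun a => (g₁.u a : m.PP)) (fun b => (g₂.u b : m.PP)) t) := by
    intro s
    rw [← Equiv.sum_comp (sg g₁.r g₂.r)]
    refine Finset.sum_congr rfl fun j _ => ?_
    change (Matrix.fromBlocks g₁.M 0 0 g₂.M (sg g₁.r g₂.r j) (sg g₁.r g₂.r ((sg g₁.r g₂.r).symm s)) ⊗ₜ[k]
      (1 : A.obj (op ⟨1⟩)) : c.H.O ⊗[k] A.obj (op ⟨1⟩)) • _ = _
    rw [Equiv.apply_symm_apply]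
    rfl
  obtain ⟨s, rfl⟩ := (sg g₁.r g₂.r).symm.surjective i
  have e1 : uu g₁.u g₂.u ((sg g₁.r g₂.r).symm s) = Sum.elim (fun a => (g₁.u a : m.PP)) (fun b => (g₂.u b : m.PP)) s := by
    unfold uu
    rw [Equiv.apply_symm_apply]
  have e2 : wt g₁.r g₂.r ((sg g₁.r g₂.r).symm s) = Sum.elim (fun _ => 1) (fun _ => 2) s := by
    unfold wt
    rw [Equiv.apply_symm_apply]
  rw [e1, e2]
  refine Eq.mpr (congrArg (fun t => φ (ppMap (xp k A c.H.O 1 0) m _) - t ∈ (mBC (xp k A c.H.O 1 1) m).Fil _) (e s)) ?_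
  rw [Fintype.sum_sum_type]
  rcases s with a | b
  · have h0 : ∑ t : Fin g₂.r, (Matrix.fromBlocks g₁.M 0 0 g₂.M (Sum.inr t) (Sum.inl a) ⊗ₜ[k] (1 : A.obj (op ⟨1⟩)) :
        c.H.O ⊗[k] A.obj (op ⟨1⟩)) • ppMap (xp k A c.H.O 1 1) m
          (Sum.elim (fun a => (g₁.u a : m.PP)) (fun b => (g₂.u b : m.PP)) (Sum.inr t)) = 0 :=
      Finset.sum_eq_zero fun t _ => by
        rw [Matrix.fromBlocks_apply₂₁, Matrix.zero_apply, TensorProduct.zero_tmul, zero_smul]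
    rw [h0, add_zero]
    exact g₁.cond φ hφ a
  · have h0 : ∑ t : Fin g₁.r, (Matrix.fromBlocks g₁.M 0 0 g₂.M (Sum.inl t) (Sum.inr b) ⊗ₜ[k] (1 : A.obj (op ⟨1⟩)) :
        c.H.O ⊗[k] A.obj (op ⟨1⟩)) • ppMap (xp k A c.H.O 1 1) m
          (Sum.elim (fun a => (g₁.u a : m.PP)) (fun b => (g₂.u b : m.PP)) (Sum.inl t)) = 0 :=
      Finset.sum_eq_zero fun t _ => by
        rw [Matrix.fromBlocks_apply₁₂, Matrix.zero_apply, TensorProduct.zero_tmul, zero_smul]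
    rw [h0, zero_add]
    exact g₂.cond φ hφ b

/-- the universal arrow -/
def univ : (wGpd (wt g₁.r g₂.r) (hu g₁.u g₂.u)).Hom (xp k A c.H.O 1 0) (xp k A c.H.O 1 1) :=
  show WHom m (wt g₁.r g₂.r) (uu g₁.u g₂.u) (xp k A c.H.O 1 0) (xp k A c.H.O 1 1) from
  { a := univA v
    M := matPt A c.H.O (isMC_bm g₁ g₂) 1 (upt c.H)
    wt := wpres g₁ g₂ c.H.O 1 (upt c.H)
    wt' := wpres' g₁ g₂ c.H.O 1 (upt c.H)
    cond := wcond g₁ g₂ }

theorem forg_univ : (forg (hu g₁.u g₂.u)).app (univ g₁ g₂) =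
    (trLev c v.mc (isMC_bm g₁ g₂)).ar c.H.O 1 0 1 (upt c.H) :=
  Prod.ext rfl (Prod.ext rfl rfl)

/-- the levels -/
def lev : Lev k A (pts c.H) (wGpd (wt g₁.r g₂.r) (hu g₁.u g₂.u)) :=
  levOf (forg (hu g₁.u g₂.u)) (trLev c v.mc (isMC_bm g₁ g₂)) (univ := univ g₁ g₂) (forg_univ g₁ g₂)
    (forg_ext (hu g₁.u g₂.u))

theorem lev_eta (B : Type u) [CommRing B] [Algebra k B] (n : ℕ) (i j : Fin (n + 1)) (h : (pts c.H).pt B) :
    (WHom.a ((lev g₁ g₂).ar B n i j h)).eta = etaD c B n i j h :=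
  congrArg Prod.fst (app_arOf (forg (hu g₁.u g₂.u)) (trLev c v.mc (isMC_bm g₁ g₂)) (forg_univ g₁ g₂) B n i j h)

/-- **`ProdIn`** -/
def prodIn : K280.ProdIn c where
  V := ι → c.Y.D.obj (op ⟨0⟩)
  ρ := rhoI w
  m := m
  P := wGpd (wt g₁.r g₂.r) (hu g₁.u g₂.u)
  sym := symW (hu g₁.u g₂.u) wt1 wt2 (hg g₁.u g₂.u g₁.span g₂.span)
  lev := lev g₁ g₂
  eta_match := etaMatch_of c (lev g₁ g₂) _ fun B _ _ n i j h z => by
    change (WHom.a ((lev g₁ g₂).ar B n i j h)).eta z = _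
    rw [lev_eta]

end Main

/-- the only open input: generators of the graded pieces -/
def StmtGrGen : Prop := ∀ (p : ℕ) (k : Type u) [CommRing k] [IsLb p k] (A : NFᵒᵖ ⥤ CommRingCat.{u}) [GRF k A]
  (x : PrimeSpectrum (A.obj (op ⟨0⟩))) (c : CoverDatum k A x) (ι : Type) [Fintype ι] [DecidableEq ι]
  (w : ι → Ω[(c.Y.D.obj (op ⟨0⟩))⁄(A.obj (op ⟨0⟩))]) (C : Matrix ι ι c.H.O) (v : VD c w C)
  (m : Model (A.obj (op ⟨0⟩)) (c.Y.D.obj (op ⟨0⟩)) (ι → c.Y.D.obj (op ⟨0⟩)) (rhoI w)) (n : ℕ), Nonempty (GrGen v m n)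

/-- **`StmtProd`** from the generators of the graded pieces -/
theorem stmtProd_of (h : StmtGrGen.{u}) : StmtProd.{u} := by
  refine K280.stmtProd_of ?_
  intro p k _ _ A _ x c
  obtain ⟨ι, _, _, w, C, hC, h1, h2, ⟨m⟩⟩ := K280.exists_vdata c p
  have v : VD c w C := ⟨hC, h1, h2⟩
  obtain ⟨g₁⟩ := h p k A x c ι w C v m 1
  obtain ⟨g₂⟩ := h p k A x c ι w C v m 2
  exact ⟨prodIn g₁ g₂⟩

end Groth.Agent.ResProp.EF.K58.ProdTop
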